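import Mathlib

/-!
# TI `p`-subgroups of symmetric groups (helper5, project TID)

`PS p D`: `D ≤ Sym(Ω)` is a `p`-group which is normalized by the even permutations centralizing a non-trivial element of `D`.
`PS.main`: if `D` has rank at least two and an element of prime order `r ≠ p` of `Alt(Ω)` centralizes `D`, then `p = 2`,
`|D| = 4` and `|Ω| ≥ 7`.
-/

set_option autoImplicit false
set_option linter.unusedSectionVars false
set_option maxHeartbeats 400000

namespace Cfsg.Agent.TID.K2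

open Equiv Equiv.Perm Subgroup

section Grp

variable {G : Type*} [Group G]

/-- a power prime to `p` of an element with `v ^ p = 1` -/
theorem mem_zpowers_pow {v : G} {p k : ℕ} (hv : v ^ p = 1) (h : k.Coprime p) : v ∈ zpowers (v ^ k) := by
  have h1 : (orderOf v).Coprime k := (Nat.Coprime.coprime_dvd_left (orderOf_dvd_of_pow_eq_one hv) h.symm)
  obtain ⟨m, hm⟩ := exists_pow_eq_self_of_coprime h1.symm
  exact ⟨m, by rw [← hm]; simp only [zpow_natCast]; rw [hm, hm]⟩

end Grp

variable {Ω : Type*} [Fintype Ω] [DecidableEq Ω]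

theorem fix_of_zpowers {u w : Perm Ω} {a : Ω} (h : u a = a) (hw : w ∈ zpowers u) : w a = a := by
  obtain ⟨k, rfl⟩ := hw
  exact zpow_apply_eq_self_of_apply_eq_self h k

theorem fix_of_pow {v : Perm Ω} {p k : ℕ} {a : Ω} (hv : v ^ p = 1) (h : k.Coprime p) (ha : (v ^ k) a = a) : v a = a :=
  fix_of_zpowers ha (mem_zpowers_pow hv h)

theorem comm_apply {g v : Perm Ω} (h : g * v = v * g) (x : Ω) : g (v x) = v (g x) := congrFun (congrArg DFunLike.coe h) x

theorem inv_app (g : Perm Ω) (x : Ω) : g⁻¹ (g x) = x := g.symm_apply_apply x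

theorem app_inv (g : Perm Ω) (x : Ω) : g (g⁻¹ x) = x := g.apply_symm_apply x

theorem conj_cycleOf {g v : Perm Ω} (h : g * v = v * g) (x : Ω) : g * v.cycleOf x * g⁻¹ = v.cycleOf (g x) := by
  have h1 : g * v * g⁻¹ = v := by rw [h, mul_inv_cancel_right]
  ext z
  obtain ⟨z, rfl⟩ := g.surjective z
  have h2 : v.SameCycle (g x) (g z) ↔ v.SameCycle x z := by
    have h3 := sameCycle_conj (f := v) (g := g) (x := g x) (y := g z)
    rw [h1] at h3
    simpa using h3
  rw [Perm.mul_apply, Perm.mul_apply, inv_app, cycleOf_apply, cycleOf_apply]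
  by_cases h3 : v.SameCycle x z
  · rw [if_pos h3, if_pos (h2.2 h3), comm_apply h]
  · rw [if_neg h3, if_neg (mt h2.1 h3)]

theorem cycleOf_comm (v : Perm Ω) (x : Ω) : v.cycleOf x * v = v * v.cycleOf x := by
  have h := conj_cycleOf (g := v) (v := v) rfl x
  rw [cycleOf_self_apply] at h
  exact (mul_inv_eq_iff_eq_mul.1 h).symm

theorem cycleOf_pow_eq {v : Perm Ω} {p : ℕ} (hv : v ^ p = 1) (x : Ω) : v.cycleOf x ^ p = 1 := by
  ext z
  by_cases h : v.SameCycle x z
  · rw [h.cycleOf_eq, cycleOf_pow_apply_self, hv]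
  · exact pow_apply_eq_self_of_apply_eq_self (cycleOf_apply_of_not_sameCycle h) p

theorem inv_cycleOf_apply {v : Perm Ω} {x z : Ω} (h : ¬ v.SameCycle x z) : (v.cycleOf x)⁻¹ z = z := by
  rw [Perm.inv_eq_iff_eq, cycleOf_apply_of_not_sameCycle h]

/-- an orbit of an element of order `p r` -/
theorem orbit_inj {v y : Perm Ω} {p r : ℕ} (hp : p.Prime) (hr : r.Prime) (hpr : p ≠ r) (hv : v ^ p = 1) (hy : y ^ r = 1)
    (hc : v * y = y * v) {a : Ω} (hva : v a ≠ a) (hya : y a ≠ a) :
    Function.Injective fun k : Fin (p * r) => ((v * y) ^ (k : ℕ)) a := by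
  have hc' : Commute v y := hc
  have key : ∀ k : ℕ, ((v * y) ^ k) a = a → p * r ∣ k := by
    intro k hk
    refine ((Nat.coprime_primes hp hr).2 hpr).mul_dvd_of_dvd_of_dvd ?_ ?_
    · by_contra h
      have h1 : (((v * y) ^ k) ^ r) a = a := pow_apply_eq_self_of_apply_eq_self hk r
      rw [← pow_mul, hc'.mul_pow, mul_comm k r, pow_mul y, hy, one_pow, mul_one] at h1
      exact hva (fix_of_pow hv (Nat.Coprime.mul_left ((Nat.coprime_primes hr hp).2 hpr.symm)
        ((Nat.Prime.coprime_iff_not_dvd hp).2 h).symm) h1)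
    · by_contra h
      have h1 : (((v * y) ^ k) ^ p) a = a := pow_apply_eq_self_of_apply_eq_self hk p
      rw [← pow_mul, hc'.mul_pow, mul_comm k p, pow_mul v, hv, one_pow, one_mul] at h1
      exact hya (fix_of_pow hy (Nat.Coprime.mul_left ((Nat.coprime_primes hp hr).2 hpr)
        ((Nat.Prime.coprime_iff_not_dvd hr).2 h).symm) h1)
  have key2 : ∀ i j : Fin (p * r), i ≤ j → ((v * y) ^ (i : ℕ)) a = ((v * y) ^ (j : ℕ)) a → i = j := by
    intro i j hij h
    obtain ⟨k, hk⟩ := Nat.exists_eq_add_of_le (show (i : ℕ) ≤ j from hij)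
    rw [hk, pow_add, Perm.mul_apply] at h
    have h1 := key k ((Equiv.injective _ h).symm)
    have h2 : k < p * r := by have := j.2; omega
    have h3 : k = 0 := Nat.eq_zero_of_dvd_of_lt h1 h2
    exact Fin.ext (by omega)
  intro i j h
  rcases le_total i j with h1 | h1
  · exact key2 i j h1 h
  · exact (key2 j i h1 h.symm).symm

theorem six_le {p r : ℕ} (hp : p.Prime) (hr : r.Prime) (hpr : p ≠ r) : 6 ≤ p * r := by
  have h1 := hp.two_le
  have h2 := hr.two_le
  rcases Nat.lt_or_gt_of_ne hpr with h | h <;> nlinarith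

/-- the fixed points -/
def fixS (s : Perm Ω) : Finset Ω := Finset.univ.filter fun x => s x = x

theorem mem_fixS {s : Perm Ω} {x : Ω} : x ∈ fixS s ↔ s x = x := by simp [fixS]

/-- the hypothesis -/
structure PS (p : ℕ) (D : Subgroup (Perm Ω)) : Prop where
  pr : p.Prime
  pg : IsPGroup p D
  ti : ∀ v ∈ D, v ≠ 1 → ∀ g : Perm Ω, sign g = 1 → g * v = v * g → ∀ d ∈ D, g * d * g⁻¹ ∈ D

variable {p : ℕ} {D : Subgroup (Perm Ω)}

theorem PS.comm_mem (H : PS p D) {v g d : Perm Ω} (hv : v ∈ D) (hv1 : v ≠ 1) (hg : sign g = 1) (hc : g * v = v * g)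
    (hd : d ∈ D) : g * d * g⁻¹ * d⁻¹ ∈ D := mul_mem (H.ti v hv hv1 g hg hc d hd) (inv_mem hd)

/-- at least five fixed points -/
theorem PS.fix5 (H : PS p D) {s t : Perm Ω} (hs : s ∈ D) (hs1 : s ≠ 1) (ht : t ∈ D) (hc : t * s = s * t)
    (h5 : 5 ≤ (fixS s).card) {a : Ω} (ha : s a = a) : t a = a := by
  by_contra hta
  have hp := H.pr
  have hΦ : 5 ≤ Nat.card (fixS s) := by rwa [Nat.card_eq_fintype_card, Fintype.card_coe]
  have hsim := alternatingGroup.isSimpleGroup hΦ
  let ι : alternatingGroup (fixS s) →* Perm Ω := Perm.ofSubtype.comp (alternatingGroup (fixS s)).subtype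
  have hι : Function.Injective ι := Perm.ofSubtype_injective.comp (alternatingGroup _).subtype_injective
  have hsign : ∀ g, sign (ι g) = 1 := fun g => (alternatingGroup.ofSubtype (fixS s) g).2
  have hsupp : ∀ g x, x ∉ fixS s → ι g x = x := fun g x hx => ofSubtype_apply_of_not_mem _ hx
  have hcomm : ∀ g, ι g * s = s * ι g := by
    intro g
    ext x
    by_cases hx : x ∈ fixS s
    · have h1 : ι g x ∈ fixS s := by
        have h2 : ι g x = (g.1 ⟨x, hx⟩ : fixS s) := ofSubtype_apply_of_mem _ hx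
        rw [h2]
        exact (g.1 ⟨x, hx⟩).2
      rw [Perm.mul_apply, Perm.mul_apply, mem_fixS.1 hx, mem_fixS.1 h1]
    · have h1 : s x ∉ fixS s := fun h => hx (mem_fixS.2 (s.injective (mem_fixS.1 h)))
      rw [Perm.mul_apply, Perm.mul_apply, hsupp g x hx, hsupp g _ h1]
  have hrange : ∀ e : Perm Ω, sign e = 1 → (∀ x, x ∉ fixS s → e x = x) → ∃ g, ι g = e := by
    intro e he hx
    obtain ⟨g, hg⟩ := (alternatingGroup.mem_range_ofSubtype_iff (fixS s) ⟨e, he⟩).2 fun x hx' => by
      by_contra h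
      exact mem_support.1 hx' (hx x h)
    exact ⟨g, congrArg Subtype.val hg⟩
  have hN : (D.comap ι).Normal := ⟨fun m hm g => by
    rw [mem_comap, map_mul, map_mul, map_inv]
    exact H.ti s hs hs1 _ (hsign g) (hcomm g) _ hm⟩
  rcases hN.eq_bot_or_eq_top with h | h
  · have hb : s (t a) = t a := by rw [← comm_apply hc, ha]
    obtain ⟨c, hc1, d, hd1, hcd⟩ : ∃ c ∈ ((fixS s).erase a).erase (t a), ∃ d ∈ ((fixS s).erase a).erase (t a), c ≠ d := by
      rw [← Finset.one_lt_card]
      have h1 := Finset.pred_card_le_card_erase (s := fixS s) (a := a)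
      have h2 := Finset.pred_card_le_card_erase (s := (fixS s).erase a) (a := t a)
      omega
    simp only [Finset.mem_erase] at hc1 hd1
    obtain ⟨g, hg⟩ := hrange (swap a c * swap c d) (by rw [map_mul, sign_swap hc1.2.1.symm, sign_swap hcd]; rfl) (by
      intro x hx
      have h1 : x ≠ a := fun h => hx (h ▸ mem_fixS.2 ha)
      have h2 : x ≠ c := fun h => hx (h ▸ hc1.2.2)
      have h3 : x ≠ d := fun h => hx (h ▸ hd1.2.2)
      rw [Perm.mul_apply, swap_apply_of_ne_of_ne h2 h3, swap_apply_of_ne_of_ne h1 h2])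
    obtain ⟨e, he⟩ := hrange (ι g * t * (ι g)⁻¹ * t⁻¹) (by
      rw [map_mul, map_mul, map_mul, map_inv, map_inv, hsign]; simp) (by
      intro x hx
      obtain ⟨x, rfl⟩ := t.surjective x
      have h1 : x ∉ fixS s := fun h => hx (mem_fixS.2 (by rw [← comm_apply hc, mem_fixS.1 h]))
      rw [Perm.mul_apply, Perm.mul_apply, Perm.mul_apply, inv_app, ← map_inv, hsupp _ x h1, hsupp _ _ hx])
    have h1 : e ∈ D.comap ι := by
      rw [mem_comap, he]
      exact H.comm_mem hs hs1 (hsign g) (hcomm g) ht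
    rw [h, mem_bot] at h1
    rw [h1, map_one, eq_comm, mul_inv_eq_one, mul_inv_eq_iff_eq_mul, hg] at he
    have h2 := comm_apply he a
    rw [Perm.mul_apply, Perm.mul_apply, swap_apply_of_ne_of_ne hc1.1.symm hd1.1.symm,
      swap_apply_of_ne_of_ne hta hc1.1.symm, swap_apply_of_ne_of_ne hc1.2.1.symm hd1.2.1.symm, swap_apply_left] at h2
    exact hc1.2.1 (t.injective h2).symm
  · have hP : IsPGroup p (alternatingGroup (fixS s)) :=
      H.pg.of_injective (ι.codRestrict D fun g => by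
        have h1 : g ∈ D.comap ι := by rw [h]; exact mem_top g
        exact h1) fun a b hab => hι (congrArg Subtype.val hab)
    have : Fact p.Prime := ⟨hp⟩
    obtain ⟨k, hk⟩ := IsPGroup.iff_card.1 hP
    have : Nontrivial (fixS s) := Finite.one_lt_card_iff_nontrivial.1 (by omega)
    have h1 := two_mul_nat_card_alternatingGroup (α := fixS s)
    rw [Nat.card_perm, hk] at h1
    have h2 : Nat.factorial 5 ∣ 2 * p ^ k := by rw [h1]; exact Nat.factorial_dvd_factorial hΦ
    have h3 : 3 ∣ p ^ k := (Nat.Coprime.dvd_mul_left (by norm_num : Nat.Coprime 3 2)).1 ((by decide : 3 ∣ Nat.factorial 5).trans h2)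
    have h4 : 5 ∣ p ^ k := (Nat.Coprime.dvd_mul_left (by norm_num : Nat.Coprime 5 2)).1 ((by decide : 5 ∣ Nat.factorial 5).trans h2)
    have h6 := (Nat.prime_dvd_prime_iff_eq Nat.prime_three hp).1 (Nat.prime_three.dvd_of_dvd_pow h3)
    have h7 := (Nat.prime_dvd_prime_iff_eq Nat.prime_five hp).1 (Nat.prime_five.dvd_of_dvd_pow h4)
    omega

/-- an even permutation of prime order `r ≠ p` centralizing `D` -/
structure Cy (p r : ℕ) (D : Subgroup (Perm Ω)) (y : Perm Ω) : Prop where
  pr : r.Prime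
  ne : p ≠ r
  pow : y ^ r = 1
  ne_one : y ≠ 1
  sg : sign y = 1
  cen : ∀ d ∈ D, d * y = y * d

variable {r : ℕ} {y : Perm Ω}

/-- `y` does not map `a` into the orbit of a commuting `p`-element -/
theorem not_same {v u : Perm Ω} {a : Ω} {k : ℕ} (hv : v ^ p = 1) (hu : u ^ p = 1) (hy : y ^ r = 1) (huv : u * v = v * u)
    (huy : u * y = y * u) (hvy : v * y = y * v) (hk : (k * p).Coprime r) (hya : y a ≠ a) :
    ¬ v.SameCycle ((u * y ^ k) a) a := by
  rintro ⟨i, hi⟩
  have c1 : Commute u v := huv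
  have c2 : Commute u y := huy
  have c3 : Commute v y := hvy
  have h1 : ((v ^ i * (u * y ^ k)) ^ p) a = a := pow_apply_eq_self_of_apply_eq_self hi p
  rw [Commute.mul_pow (((c1.symm).mul_right (c3.pow_right k)).zpow_left i), (c2.pow_right k).mul_pow, hu, one_mul,
    ← zpow_natCast (v ^ i), ← zpow_mul, mul_comm i, zpow_mul, zpow_natCast, hv, one_zpow, one_mul, ← pow_mul] at h1
  exact hya (fix_of_pow hy hk h1)

/-- the elements of a subgroup of type `(p, p)` fix the support of `y` -/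
theorem PS.fix_supp (H : PS p D) (Y : Cy p r D y) {v s : Perm Ω} (hv : v ∈ D) (hs : s ∈ D) (hvp : v ^ p = 1)
    (hsp : s ^ p = 1) (hc : s * v = v * s) (hsv : s ∉ zpowers v) {a : Ω} (hya : y a ≠ a) : v a = a := by
  by_contra hva
  have hv1 : v ≠ 1 := fun h => hva (by rw [h]; rfl)
  have hp := H.pr
  have hpr : p.Coprime r := (Nat.coprime_primes hp Y.pr).2 Y.ne
  have cv : Commute s v := hc
  have hvy := Y.cen v hv
  have hsy := Y.cen s hs
  by_cases hsa : v.SameCycle a (s a)
  · obtain ⟨i, hi⟩ := hsa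
    have h1 : (v ^ i)⁻¹ * s ∈ D := mul_mem (inv_mem (zpow_mem hv i)) hs
    have h2 : (v ^ i)⁻¹ * s ≠ 1 := fun h => hsv ⟨i, inv_mul_eq_one.1 h⟩
    have h3 : ((v ^ i)⁻¹ * s) a = a := by rw [Perm.mul_apply, ← hi, inv_app]
    have h4 : Commute ((v ^ i)⁻¹ * s) v := (((Commute.refl v).zpow_left i).inv_left).mul_left cv
    have h5 : Commute ((v ^ i)⁻¹ * s) y := Y.cen _ h1
    refine hva (H.fix5 h1 h2 hv h4.symm ?_ h3)
    have h6 := Finset.card_le_card_of_injOn (s := Finset.univ) (t := fixS ((v ^ i)⁻¹ * s))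
      (fun k : Fin (p * r) => ((v * y) ^ (k : ℕ)) a) (fun k _ => by
        rw [Finset.mem_coe, mem_fixS, comm_apply ((h4.mul_right h5).pow_right k), h3])
      (orbit_inj hp Y.pr Y.ne hvp Y.pow hvy hva hya).injOn
    rw [Finset.card_univ, Fintype.card_fin] at h6
    have := six_le hp Y.pr Y.ne
    omega
  have hsa' : ¬ v.SameCycle (s a) a := fun h => hsa h.symm
  rcases hp.eq_two_or_odd' with rfl | hodd
  · -- `p = 2`
    have hsg : sign (v.cycleOf a * v.cycleOf (y a)) = 1 := by
      rw [← conj_cycleOf hvy.symm a, map_mul, map_mul, map_mul, map_inv, mul_right_comm (sign y), mul_inv_cancel, one_mul,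
        Int.units_mul_self]
    have hw : v.cycleOf a * v.cycleOf (y a) * v = v * (v.cycleOf a * v.cycleOf (y a)) := by
      rw [mul_assoc, cycleOf_comm, ← mul_assoc, cycleOf_comm, mul_assoc]
    have h1 := Y.cen _ (H.comm_mem hv hv1 hsg hw hs)
    have h2 : ∀ x z, v.cycleOf x * v.cycleOf z * s * (v.cycleOf x * v.cycleOf z)⁻¹ * s⁻¹ =
        v.cycleOf x * v.cycleOf z * (v.cycleOf (s x) * v.cycleOf (s z))⁻¹ := by
      intro x z
      rw [← conj_cycleOf hc x, ← conj_cycleOf hc z]
      group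
    rw [h2] at h1
    have h3 : y * (v.cycleOf a * v.cycleOf (y a) * (v.cycleOf (s a) * v.cycleOf (s (y a)))⁻¹) * y⁻¹ =
        v.cycleOf (y a) * v.cycleOf (y (y a)) * (v.cycleOf (y (s a)) * v.cycleOf (y (s (y a))))⁻¹ := by
      have e1 := conj_cycleOf hvy.symm a
      have e2 := conj_cycleOf hvy.symm (y a)
      have e3 := conj_cycleOf hvy.symm (s a)
      have e4 := conj_cycleOf hvy.symm (s (y a))
      generalize v.cycleOf (y a) = c1 at e1 e2 ⊢
      generalize v.cycleOf (s (y a)) = c2 at e4 ⊢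
      have e5 : y * (v.cycleOf a * c1 * (v.cycleOf (s a) * c2)⁻¹) * y⁻¹ = y * v.cycleOf a * y⁻¹ * (y * c1 * y⁻¹) *
          (y * v.cycleOf (s a) * y⁻¹ * (y * c2 * y⁻¹))⁻¹ := by group
      rw [e5, e1, e2, e3, e4]
    rw [← h1, mul_inv_cancel_right] at h3
    have hr2 : ∀ k, k = 1 ∨ k = 2 → (k * 2).Coprime r := by
      rintro k (rfl | rfl)
      · exact hpr
      · exact Nat.Coprime.mul_left hpr hpr
    have n1 : ¬ v.SameCycle (y a) a := by
      simpa using not_same (u := 1) (k := 1) hvp (one_pow _) Y.pow (by simp) (by simp) hvy (hr2 1 (Or.inl rfl)) hya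
    have n2 : ¬ v.SameCycle (y (y a)) a := by
      simpa [pow_two] using not_same (u := 1) (k := 2) hvp (one_pow _) Y.pow (by simp) (by simp) hvy (hr2 2 (Or.inr rfl)) hya
    have n3 : ¬ v.SameCycle (s (y a)) a := by
      simpa using not_same (u := s) (k := 1) hvp hsp Y.pow hc hsy hvy (hr2 1 (Or.inl rfl)) hya
    have n4 : ¬ v.SameCycle (s (y (y a))) a := by
      simpa [pow_two] using not_same (u := s) (k := 2) hvp hsp Y.pow hc hsy hvy (hr2 2 (Or.inr rfl)) hya
    have h4 := congrFun (congrArg DFunLike.coe h3) a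
    rw [← comm_apply hsy a, ← comm_apply hsy (y a)] at h4
    simp only [mul_inv_rev, Perm.mul_apply] at h4
    rw [inv_cycleOf_apply hsa', inv_cycleOf_apply n3, inv_cycleOf_apply n4, cycleOf_apply_of_not_sameCycle n2,
      cycleOf_apply_of_not_sameCycle n1, cycleOf_apply_self] at h4
    exact hva h4
  · -- `p` odd
    have hsg : sign (v.cycleOf a) = 1 := by
      have h1 : sign (v.cycleOf a) ^ p = 1 := by rw [← map_pow, cycleOf_pow_eq hvp, map_one]
      rcases Int.units_eq_one_or (sign (v.cycleOf a)) with h | h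
      · exact h
      · rw [h, hodd.neg_one_pow] at h1
        exact absurd h1 (by decide)
    have h1 := Y.cen _ (H.comm_mem hv hv1 hsg (cycleOf_comm v a) hs)
    have h2 : v.cycleOf a * s * (v.cycleOf a)⁻¹ * s⁻¹ = v.cycleOf a * (v.cycleOf (s a))⁻¹ := by
      rw [← conj_cycleOf hc a]
      group
    rw [h2] at h1
    have h3 := comm_apply h1 a
    have n1 : ¬ v.SameCycle (y a) a := by
      simpa using not_same (u := 1) (k := 1) hvp (one_pow _) Y.pow (by simp) (by simp) hvy (by simpa using hpr) hya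
    have hvya : v (y a) ≠ y a := fun h => hva (y.injective (by rw [← comm_apply hvy, h]))
    rw [Perm.mul_apply, Perm.mul_apply, inv_cycleOf_apply hsa', cycleOf_apply_self, ← comm_apply hvy] at h3
    by_cases h4 : v.SameCycle (s a) (y a)
    · have h5 : (v.cycleOf (s a))⁻¹ (y a) = v⁻¹ (y a) := by
        rw [Perm.inv_eq_iff_eq, (show v.SameCycle (s a) (v⁻¹ (y a)) from sameCycle_symm_apply_right.2 h4).cycleOf_apply,
          app_inv]
      rw [h5, cycleOf_apply_of_not_sameCycle (show ¬ v.SameCycle a (v⁻¹ (y a)) from fun h =>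
        n1 (sameCycle_symm_apply_right.1 h).symm), Perm.inv_eq_iff_eq] at h3
      refine hvya (fix_of_pow (k := 2) hvp ?_ (by rw [pow_two]; exact h3.symm))
      exact (Nat.coprime_two_left).2 hodd
    · rw [inv_cycleOf_apply h4, cycleOf_apply_of_not_sameCycle (fun h => n1 h.symm)] at h3
      exact hvya h3.symm

theorem Cy.three (Y : Cy p r D y) : 3 ≤ y.support.card := by
  have h1 := two_le_card_support_of_ne_one Y.ne_one
  by_contra h
  have h2 : y.support.card = 2 := by omega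
  have h3 := (card_support_eq_two.1 h2).sign_eq
  rw [Y.sg] at h3
  exact absurd h3 (by decide)

/-- commuting elements fixing the support of `y` -/
theorem PS.fix3 (H : PS p D) (Y : Cy p r D y) {s t : Perm Ω} (hs : s ∈ D) (hs1 : s ≠ 1) (ht : t ∈ D) (hc : t * s = s * t)
    (hsy : ∀ x, y x ≠ x → s x = x) (hty : ∀ x, y x ≠ x → t x = x) {a : Ω} (ha : s a = a) : t a = a := by
  by_contra hta
  refine hta (H.fix5 hs hs1 ht hc ?_ ha)
  have h1 : a ∉ y.support := fun h => hta (hty a (mem_support.1 h))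
  have h2 : t a ∉ y.support := fun h => hta (t.injective (hty _ (mem_support.1 h)))
  have h3 : insert (t a) (insert a y.support) ⊆ fixS s := by
    intro x hx
    simp only [Finset.mem_insert] at hx
    rcases hx with rfl | rfl | hx
    · rw [mem_fixS, ← comm_apply hc, ha]
    · exact mem_fixS.2 ha
    · exact mem_fixS.2 (hsy x (mem_support.1 hx))
  have h4 := Finset.card_le_card h3
  rw [Finset.card_insert_of_notMem (by simp only [Finset.mem_insert, not_or]; exact ⟨hta, h2⟩),
    Finset.card_insert_of_notMem h1] at h4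
  have := Y.three
  omega

/-- the support consists of two cycles -/
theorem PS.two_cyc (H : PS p D) (Y : Cy p r D y) {v s : Perm Ω} (hv : v ∈ D) (hs : s ∈ D) (hc : s * v = v * s)
    (hsv : s ∉ zpowers v) (hvy : ∀ x, y x ≠ x → v x = x) (hsy : ∀ x, y x ≠ x → s x = x) {a : Ω} (hva : v a ≠ a) :
    s * s ∈ zpowers v ∧ ∀ x, v x ≠ x → v.SameCycle a x ∨ v.SameCycle (s a) x := by
  have hv1 : v ≠ 1 := fun h => hva (by rw [h]; rfl)
  have cv : Commute s v := hc
  have key : ∀ u ∈ D, Commute u v → (∀ x, y x ≠ x → u x = x) → v.SameCycle a (u a) → u ∈ zpowers v := by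
    rintro u hu huv huy ⟨i, hi⟩
    by_contra h
    have h1 : (v ^ i)⁻¹ * u ∈ D := mul_mem (inv_mem (zpow_mem hv i)) hu
    have h2 : (v ^ i)⁻¹ * u ≠ 1 := fun h' => h ⟨i, inv_mul_eq_one.1 h'⟩
    have h3 : ((v ^ i)⁻¹ * u) a = a := by rw [Perm.mul_apply, ← hi, inv_app]
    have h4 : Commute ((v ^ i)⁻¹ * u) v := (((Commute.refl v).zpow_left i).inv_left).mul_left huv
    refine hva (H.fix3 Y h1 h2 hv h4.symm (fun x hx => ?_) hvy h3)
    rw [Perm.mul_apply, huy x hx, Perm.inv_eq_iff_eq, zpow_apply_eq_self_of_apply_eq_self (hvy x hx)]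
  have hsa : ¬ v.SameCycle a (s a) := fun h => hsv (key s hs cv hsy h)
  obtain ⟨b, hb, c, hc', hbc⟩ := Finset.one_lt_card.1 (show 1 < y.support.card by have := Y.three; omega)
  rw [mem_support] at hb hc'
  have hτ : ∀ g : Perm Ω, g b = b → g c = c → g * swap b c = swap b c * g := by
    intro g h1 h2
    rw [← mul_inv_eq_iff_eq_mul, ← swap_apply_apply, h1, h2]
  have hcy : ∀ x z, y z ≠ z → v.cycleOf x z = z := fun x z hz => by
    rw [cycleOf_apply]
    split_ifs
    · exact hvy z hz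
    · rfl
  have he : v.cycleOf a * (v.cycleOf (s a))⁻¹ ∈ D := by
    have h2 : v.cycleOf a * s * (v.cycleOf a)⁻¹ * s⁻¹ = v.cycleOf a * (v.cycleOf (s a))⁻¹ := by
      rw [← conj_cycleOf hc a]
      group
    rw [← h2]
    rcases Int.units_eq_one_or (sign (v.cycleOf a)) with h | h
    · exact H.comm_mem hv hv1 h (cycleOf_comm v a) hs
    · have h3 := H.comm_mem (g := v.cycleOf a * swap b c) hv hv1 (by rw [map_mul, h, sign_swap hbc]; rfl) (by
        rw [mul_assoc, ← hτ v (hvy b hb) (hvy c hc'), ← mul_assoc, cycleOf_comm, mul_assoc]) hs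
      have h4 : v.cycleOf a * swap b c * s * (v.cycleOf a * swap b c)⁻¹ = v.cycleOf a * s * (v.cycleOf a)⁻¹ := by
        rw [mul_assoc (v.cycleOf a), ← hτ s (hsy b hb) (hsy c hc')]
        group
      rwa [h4] at h3
  have he1 : v.cycleOf a * (v.cycleOf (s a))⁻¹ ≠ 1 := by
    intro h
    have h1 := congrFun (congrArg DFunLike.coe h) a
    rw [Perm.mul_apply, inv_cycleOf_apply (fun h => hsa h.symm), cycleOf_apply_self] at h1
    exact hva h1
  have hec : Commute v (v.cycleOf a * (v.cycleOf (s a))⁻¹) :=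
    Commute.mul_right (cycleOf_comm v a).symm (Commute.inv_right (cycleOf_comm v (s a)).symm)
  have hall : ∀ x, v x ≠ x → v.SameCycle a x ∨ v.SameCycle (s a) x := by
    intro x hx
    by_contra h
    rw [not_or] at h
    refine hx (H.fix3 Y he he1 hv hec (fun z hz => ?_) hvy ?_)
    · rw [Perm.mul_apply, Perm.inv_eq_iff_eq.2 (hcy _ z hz).symm, hcy _ z hz]
    · rw [Perm.mul_apply, inv_cycleOf_apply h.2, cycleOf_apply_of_not_sameCycle h.1]
  refine ⟨key _ (mul_mem hs hs) (cv.mul_left cv) (fun x hx => by rw [Perm.mul_apply, hsy x hx, hsy x hx]) ?_, hall⟩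
  rcases hall (s (s a)) (fun h => hva (s.injective (s.injective (by rw [comm_apply hc, comm_apply hc, h])))) with h | h
  · exact h
  · obtain ⟨i, hi⟩ := h
    exact absurd ⟨i, s.injective (by rw [comm_apply (cv.zpow_right i), hi])⟩ hsa

theorem exists_not_zpowers {G : Type*} [Group G] [Finite G] {p : ℕ} (hp : p.Prime) {V : Subgroup G}
    (hV : Nat.card V = p ^ 2) {u : G} (hu : u ^ p = 1) : ∃ s ∈ V, s ∉ zpowers u := by
  by_contra h
  push Not at h
  have h1 := card_le_of_le (show V ≤ zpowers u from h)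
  rw [hV, Nat.card_zpowers] at h1
  have h2 := Nat.le_of_dvd hp.pos (orderOf_dvd_of_pow_eq_one hu)
  have h3 := hp.two_le
  nlinarith

/-- **The theorem.** -/
theorem PS.main (H : PS p D) (Y : Cy p r D y) {V : Subgroup (Perm Ω)} (hVD : V ≤ D) (hVc : ∀ a ∈ V, ∀ b ∈ V, a * b = b * a)
    (hVp : ∀ a ∈ V, a ^ p = 1) (hV : Nat.card V = p ^ 2) : p = 2 ∧ Nat.card D = 4 ∧ 7 ≤ Fintype.card Ω := by
  have hp := H.pr
  have hfix : ∀ v ∈ V, ∀ x, y x ≠ x → v x = x := by
    intro v hv x hx
    obtain ⟨s, hs, hsv⟩ := exists_not_zpowers hp hV (hVp v hv)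
    exact H.fix_supp Y (hVD hv) (hVD hs) (hVp v hv) (hVp s hs) (hVc s hs v hv) hsv hx
  obtain ⟨v, hv, hv1⟩ := exists_not_zpowers hp hV (one_pow p)
  have hv1' : v ≠ 1 := fun h => hv1 (by rw [h]; exact one_mem _)
  obtain ⟨s, hs, hsv⟩ := exists_not_zpowers hp hV (hVp v hv)
  obtain ⟨a, ha⟩ : ∃ a, v a ≠ a := by
    by_contra h
    push Not at h
    exact hv1' (Equiv.ext h)
  obtain ⟨h1, -⟩ := H.two_cyc Y (hVD hv) (hVD hs) (hVc s hs v hv) hsv (hfix v hv) (hfix s hs) ha
  have hp2 : p = 2 := by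
    by_contra h
    refine hsv (zpowers_le.2 h1 ?_)
    rw [← pow_two]
    exact mem_zpowers_pow (hVp s hs) ((Nat.coprime_primes Nat.prime_two hp).2 (Ne.symm h))
  subst hp2
  have : Fact (Nat.Prime 2) := ⟨hp⟩
  -- a central involution
  have : Nontrivial D := (nontrivial_iff_ne_bot D).2 fun h => hv1' (by
    have h2 := hVD hv
    rwa [h, mem_bot] at h2)
  have hZ := H.pg.center_nontrivial
  obtain ⟨k, hk0, hk⟩ := (H.pg.to_subgroup (center D)).nontrivial_iff_card.1 hZ
  obtain ⟨z0, hz0⟩ := exists_prime_orderOf_dvd_card' (G := center D) 2 (by rw [hk]; exact dvd_pow_self 2 hk0.ne')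
  let z : Perm Ω := z0.1.1
  have hzD : z ∈ D := z0.1.2
  have hzo : orderOf z = 2 := by rw [orderOf_coe, orderOf_coe, hz0]
  have hzz : z ^ 2 = 1 := by rw [← hzo, pow_orderOf_eq_one]
  have hz1 : z ≠ 1 := fun h => by rw [h, orderOf_one] at hzo; omega
  have hzc : ∀ d ∈ D, d * z = z * d := fun d hd => congrArg Subtype.val (mem_center_iff.1 z0.2 ⟨d, hd⟩)
  obtain ⟨w, hw, hwz⟩ := exists_not_zpowers hp hV hzz
  have hzy : ∀ x, y x ≠ x → z x = x := fun x hx =>
    H.fix_supp Y hzD (hVD hw) hzz (hVp w hw) (hzc w (hVD hw)) hwz hx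
  have hinv : ∀ t ∈ D, t ^ 2 = 1 → t ≠ 1 → ∀ x, t x = x → z x = x := by
    intro t ht htt ht1 x hx
    by_cases h : z ∈ zpowers t
    · exact fix_of_zpowers hx h
    · exact H.fix3 Y ht ht1 hzD (hzc t ht).symm (fun x hx => H.fix_supp Y ht hzD htt hzz (hzc t ht).symm h hx) hzy hx
  obtain ⟨b, hb⟩ : ∃ b, z b ≠ b := by
    by_contra h
    push Not at h
    exact hz1 (Equiv.ext h)
  obtain ⟨-, h2⟩ := H.two_cyc Y hzD (hVD hw) (hzc w (hVD hw)) hwz hzy (hfix w hw) hb
  have hcyc : ∀ x x', z.SameCycle x x' → x' = x ∨ x' = z x := by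
    intro x x' h
    obtain ⟨i, hi, h3⟩ := h.exists_pow_eq'
    rw [hzo] at hi
    interval_cases i
    · exact Or.inl h3.symm
    · exact Or.inr h3.symm
  have h4 : z.support.card ≤ 4 := by
    have h3 : z.support ⊆ {b, z b, w b, z (w b)} := by
      intro x hx
      simp only [Finset.mem_insert, Finset.mem_singleton]
      rcases h2 x (mem_support.1 hx) with h | h <;> rcases hcyc _ _ h with h | h <;> tauto
    exact (Finset.card_le_card h3).trans Finset.card_le_four
  have hinj : Function.Injective fun d : D => (⟨d.1 b, mem_support.2 fun h =>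
      hb (d.1.injective (by rw [comm_apply (hzc d.1 d.2), h]))⟩ : z.support) := by
    intro d d' h
    have h5 : (d⁻¹ * d').1 b = b := by
      have h6 : d.1 b = d'.1 b := congrArg Subtype.val h
      rw [Subgroup.coe_mul, Subgroup.coe_inv, Perm.mul_apply, ← h6, inv_app]
    by_contra hne
    have h7 : (d⁻¹ * d').1 ≠ 1 := fun h' => hne (inv_mul_eq_one.1 (Subtype.ext h'))
    obtain ⟨j, hj⟩ := IsPGroup.iff_orderOf.1 H.pg (d⁻¹ * d')
    rw [← orderOf_coe] at hj
    have h8 : 2 ∣ orderOf (d⁻¹ * d').1 := by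
      rw [hj]
      refine dvd_pow_self 2 fun h0 => h7 ?_
      rwa [h0, pow_zero, orderOf_eq_one_iff] at hj
    have h9 := orderOf_pow_orderOf_div (orderOf_pos (d⁻¹ * d').1).ne' h8
    refine hb (hinv _ (pow_mem (d⁻¹ * d').2 _) (by rw [← h9, pow_orderOf_eq_one]) (fun h' => ?_) b
      (pow_apply_eq_self_of_apply_eq_self h5 _))
    rw [h', orderOf_one] at h9
    omega
  have h5 := Nat.card_le_card_of_injective _ hinj
  rw [Nat.card_eq_fintype_card (α := z.support), Fintype.card_coe] at h5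
  have h6 := card_le_of_le hVD
  rw [hV] at h6
  refine ⟨rfl, by omega, ?_⟩
  have h7 : Disjoint z.support y.support := by
    rw [Finset.disjoint_left]
    intro x hx hx'
    exact mem_support.1 hx (hzy x (mem_support.1 hx'))
  have h8 := Finset.card_le_univ (z.support ∪ y.support)
  rw [Finset.card_union_of_disjoint h7] at h8
  have := Y.three
  omega

end Cfsg.Agent.TID.K2
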