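import Cfsg.Agent.TID.Basic
import Cfsg.Agent.TID.K2.AltPerm
import Cfsg.Agent.LFourA.AltPsiAut
import Cfsg.Agent.S2119

/-!
# The row `KAlt` (helper5, project TID)
-/

set_option autoImplicit false
set_option linter.unusedSectionVars false
set_option maxHeartbeats 400000

namespace Cfsg.Agent.TID.K2

open Cfsg Equiv Equiv.Perm Subgroup
open Cfsg.Agent.LFourA.AltPsiAut (NE A6)

universe u

/-- an element of prime order `r ≠ p` -/
theorem exists_prime_elt {X : Type u} [Group X] [Finite X] {p : ℕ} [hp : Fact p.Prime] {K : Subgroup X}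
    (h : ¬ IsPGroup p K) : ∃ (r : ℕ) (y : X), r.Prime ∧ p ≠ r ∧ y ∈ K ∧ y ^ r = 1 ∧ y ≠ 1 := by
  by_contra hcon
  push Not at hcon
  refine h (isPGroup_of_reg fun y hy hyp => ?_)
  by_contra hy1
  have h1 : orderOf y ≠ 1 := fun h => hy1 (orderOf_eq_one_iff.1 h)
  have h2 := orderOf_pow_orderOf_div (orderOf_pos y).ne' (Nat.minFac_dvd (orderOf y))
  have h3 := hcon _ _ (Nat.minFac_prime h1) (fun h => hyp (h ▸ Nat.minFac_dvd _)) (pow_mem hy _)
    (by rw [← h2, pow_orderOf_eq_one])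
  rw [h3, orderOf_one] at h2
  exact (Nat.minFac_prime h1).ne_one h2.symm

/-- conjugation -/
abbrev kap (n : ℕ) : Perm (Fin n) →* MulAut (alternatingGroup (Fin n)) := MulAut.conjNormal

theorem kap_inj {n : ℕ} (hn : 5 ≤ n) : Function.Injective (kap n) := by
  obtain ⟨m, rfl⟩ : ∃ m, n = m + 2 := ⟨n - 2, by omega⟩
  rw [injective_iff_map_eq_one]
  intro σ h
  exact StandardComponent.AltAut.eq_one_of_centralizes (by omega) fun x => congrArg Subtype.val (DFunLike.congr_fun h x)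

theorem NE_le : NE ≤ (kap 6).range := fun _ hα => by
  obtain ⟨σ, hσ⟩ := LFourA.AltPsiAut.exists_perm hα
  exact ⟨σ, MulEquiv.ext fun x => Subtype.ext (hσ x).symm⟩

theorem six_ten : ∀ z : Perm (Fin 6), z ^ 10 = 1 → z ^ 5 = 1 ∨ z ^ 2 = 1 := by decide +kernel


/-- an exotic automorphism fixes no element of order three -/
theorem exo_three {α : MulAut A6} (hα : α ∉ NE) {y : A6} (hy : orderOf y = 3) : α y ≠ y := by
  intro h
  rcases LFourA.AltPsiAut.three_or hy with h1 | h1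
  · have h2 := LFourA.AltPsiAut.type_of_not_mem hα h1
    rw [h, h1] at h2
    exact absurd h2 (by decide)
  · obtain ⟨g, hg⟩ := LFourA.AltPsiAut.exists_conj_33
      (LFourA.AltPsiAut.type_of_not_mem hα LFourA.AltPsiAut.u3_three) h1
    have h2 : α⁻¹ g * LFourA.AltPsiAut.u3 * (α⁻¹ g)⁻¹ = y := by
      apply α.injective
      rw [map_mul, map_mul, map_inv, MulAut.apply_inv_self, hg, h]
    have h3 : (y : Perm (Fin 6)).IsThreeCycle := by
      rw [← h2]
      exact LFourA.AltPsiAut.isThreeCycle_conj.2 LFourA.AltPsiAut.u3_three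
    rw [h3] at h1
    exact absurd h1 (by decide)

section

variable {X : Type u} [Group X] [Finite X] {S D : Subgroup X} {p : ℕ} [hp : Fact p.Prime]

/-- the action on the socle, transported -/
def phi [S.Normal] {T : Type*} [Group T] (e : S ≃* T) : X →* MulAut T :=
  (MulAut.congr e).toMonoidHom.comp MulAut.conjNormal

theorem phi_apply [hS : S.Normal] {T : Type*} [Group T] (e : S ≃* T) (x : X) (s : S) :
    phi e x (e s) = e ⟨x * s * x⁻¹, hS.conj_mem _ s.2 x⟩ := by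
  change e (MulAut.conjNormal x (e.symm (e s))) = _
  rw [e.symm_apply_apply]
  rfl

theorem phi_inj [S.Normal] (h : Soc S) {T : Type*} [Group T] (e : S ≃* T) : Function.Injective (phi (X := X) e) := by
  rw [injective_iff_map_eq_one]
  intro x hx
  rw [← mem_bot, ← h.cent, mem_centralizer_iff]
  intro s hs
  have h1 := phi_apply e x ⟨s, hs⟩
  rw [hx, MulAut.one_apply] at h1
  have h2 : s = x * s * x⁻¹ := congrArg Subtype.val (e.injective h1)
  exact eq_mul_inv_iff_mul_eq.1 h2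

theorem phi_coe [S.Normal] {T : Type*} [Group T] (e : S ≃* T) (s : S) : phi e (s : X) = MulAut.conj (e s) := by
  ext t
  obtain ⟨t, rfl⟩ := e.surjective t
  rw [phi_apply, MulAut.conj_apply, ← map_inv, ← map_mul, ← map_mul]
  rfl

theorem phi_fix [S.Normal] {T : Type*} [Group T] (e : S ≃* T) {x : X} {s : S} : phi e x (e s) = e s ↔ x * s = s * x := by
  rw [phi_apply, e.injective.eq_iff, Subtype.ext_iff]
  exact mul_inv_eq_iff_eq_mul

theorem out_alt (h : AS p S D) {n : ℕ} (hn : 5 ≤ n) (e : S ≃* alternatingGroup (Fin n)) : Out p S D := by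
  have hS := h.soc.normal
  have hφ := phi_inj h.soc e
  have hκ := kap_inj hn
  have hs : ∀ s : S, phi e (s : X) = kap n (e s) := fun s => by rw [phi_coe, MulAut.conjNormal_val]
  have hcomm : ∀ {x : X} {σ : Perm (Fin n)} (s : S), phi e x = kap n σ → (x * s = s * x ↔ σ * e s = e s * σ) := by
    intro x σ s hx
    rw [← hφ.eq_iff, ← hκ.eq_iff, map_mul, map_mul, map_mul, map_mul, hx, hs]
  obtain ⟨V, hVD, hV, hVc⟩ := h.loc.rk
  by_cases hR : V.map (phi e) ≤ (kap n).range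
  · have H : PS p ((D.map (phi e)).comap (kap n)) := by
      refine ⟨hp.out, (h.loc.pgrp.map _).comap_of_injective _ hκ, ?_⟩
      rintro v ⟨v0, hv0, hv⟩ hv1 g hg hc d ⟨d0, hd0, hd⟩
      obtain ⟨s, hs'⟩ := e.surjective ⟨g, hg⟩
      have h1 : g = e s := by rw [hs']
      subst h1
      have h2 : (s : X) ∈ Nz D := h.loc.ti.cent_le hv0 (fun h0 => hv1 (hκ (by rw [← hv, h0, map_one, map_one])))
        (mem_C1.2 ((hcomm s hv).2 hc.symm))
      exact ⟨_, conj_mem h2 hd0, by rw [map_mul, map_mul, map_mul, map_mul, map_inv, map_inv, hs, hd]⟩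
    have hcard : ∀ W : Subgroup X, W.map (phi e) ≤ (kap n).range →
        Nat.card ((W.map (phi e)).comap (kap n)) = Nat.card W := fun W hW => by
      rw [← card_map_of_injective hκ, map_comap_eq_self hW, card_map_of_injective hφ]
    have hV1 : Nat.card ((V.map (phi e)).comap (kap n)) = p ^ 2 := by rw [hcard V hR, hVc]
    have hVc' : ∀ a ∈ (V.map (phi e)).comap (kap n), ∀ b ∈ (V.map (phi e)).comap (kap n), a * b = b * a := by
      rintro a ⟨a0, ha0, ha⟩ b ⟨b0, hb0, hb⟩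
      apply hκ
      rw [map_mul, map_mul, ← ha, ← hb, ← map_mul, ← map_mul, el_comm hV ha0 hb0]
    have hVp : ∀ a ∈ (V.map (phi e)).comap (kap n), a ^ p = 1 := by
      rintro a ⟨a0, ha0, ha⟩
      apply hκ
      rw [map_pow, ← ha, ← map_pow, hV.2 a0 ha0, map_one, map_one]
    by_cases hc : CenP p S D
    · exact h.out_of_cenP hc
    obtain ⟨r, y, hr, hpr, hy, hyr, hy1⟩ := exists_prime_elt hc
    have Y : Cy p r ((D.map (phi e)).comap (kap n)) (e ⟨y, hy.1⟩) := by
      refine ⟨hr, hpr, ?_, fun h0 => hy1 ?_, (e ⟨y, hy.1⟩).2, ?_⟩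
      · rw [← Subgroup.coe_pow, ← map_pow, show (⟨y, hy.1⟩ : S) ^ r = 1 from Subtype.ext hyr, map_one]
        rfl
      · exact congrArg Subtype.val ((map_eq_one_iff e e.injective).1 (Subtype.ext h0))
      · rintro d ⟨d0, hd0, hd⟩
        exact (hcomm ⟨y, hy.1⟩ hd).1 (mem_Cz.1 hy.2 d0 hd0)
    obtain ⟨h1, h2, h3⟩ := H.main Y (comap_mono (map_mono hVD)) hVc' hVp hV1
    rw [Fintype.card_fin] at h3
    rw [hcard D (by rw [MonoidHom.range_eq_top.2 (S2119.result n (by omega) (by omega)).2]; exact le_top)] at h2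
    refine ⟨fun h0 => ?_, Or.inr (Or.inr (Or.inl ⟨h1, h2⟩))⟩
    subst h1
    have h4 : Function.Injective (sign.comp ((V.map (phi e)).comap (kap n)).subtype) := by
      rw [injective_iff_map_eq_one]
      rintro ⟨a, a0, ha0, ha⟩ hsg
      obtain ⟨s, hs'⟩ := e.surjective ⟨a, hsg⟩
      have h5 : a0 = s := hφ (by rw [hs, hs', ha])
      have h6 : a0 ∈ D ⊓ S := ⟨hVD ha0, h5 ▸ s.2⟩
      rw [h0, mem_bot] at h6
      exact Subtype.ext (hκ (by rw [← ha, h6, map_one]; exact (map_one _).symm))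
    have h5 := Nat.card_le_card_of_injective _ h4
    rw [hV1, Nat.card_eq_fintype_card, Fintype.card_units_int] at h5
    omega
  -- `n = 6`
  have h6 : n = 6 := by
    by_contra h6
    exact hR (by rw [MonoidHom.range_eq_top.2 (S2119.result n (by omega) h6).2]; exact le_top)
  subst h6
  obtain ⟨_, ⟨x, hx, rfl⟩, hxR⟩ := SetLike.not_le_iff_exists.1 hR
  have hxN : phi e x ∉ NE := fun h0 => hxR (NE_le h0)
  have hp2 : p = 2 := by
    by_contra h0
    have h1 : phi e (x ^ 2) ∈ NE := by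
      have h2 := LFourA.AltPsiAut.inv_mul_mem (α := (phi e x)⁻¹) (fun h3 => hxN (inv_mem_iff.1 h3)) hxN
      rwa [inv_inv, ← map_mul, ← pow_two] at h2
    obtain ⟨k, hk⟩ := mem_zpowers_pow (hV.2 x hx) ((Nat.coprime_primes Nat.prime_two hp.out).2 (Ne.symm h0))
    exact hxN (by rw [← hk, map_zpow]; exact zpow_mem h1 k)
  subst hp2
  obtain ⟨v, hv, hv1, σ, hσ⟩ : ∃ v ∈ V, v ≠ 1 ∧ ∃ σ, kap 6 σ = phi e v := by
    obtain ⟨w, hw, hwx⟩ := el_exists_not_mem hV hVc x hx
    by_cases h0 : phi e w ∈ NE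
    · exact ⟨w, hw, fun h1 => hwx (h1 ▸ one_mem _), NE_le h0⟩
    · refine ⟨x⁻¹ * w, mul_mem (inv_mem hx) hw, fun h1 => hwx (inv_mul_eq_one.1 h1 ▸ mem_zpowers x), NE_le ?_⟩
      rw [map_mul, map_inv]
      exact LFourA.AltPsiAut.inv_mul_mem hxN h0
  have hσ2 : σ ^ 2 = 1 := hκ (by rw [map_pow, hσ, ← map_pow, hV.2 v hv, map_one, map_one])
  have hσ1 : σ ≠ 1 := fun h0 => hv1 (hφ (by rw [← hσ, h0, map_one, map_one]))
  refine h.out_of_cenP ?_
  by_contra hc
  obtain ⟨r, y, hr, hpr, hy, hyr, hy1⟩ := exists_prime_elt hc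
  have hyo : orderOf (e ⟨y, hy.1⟩) = r := by
    have := Fact.mk hr
    rw [e.orderOf_eq, ← orderOf_coe]
    exact orderOf_eq_prime hyr hy1
  have h1 : r ∣ 360 := by
    have h2 := orderOf_dvd_natCard (e ⟨y, hy.1⟩)
    rwa [hyo, nat_card_alternatingGroup, Nat.card_eq_fintype_card, Fintype.card_fin] at h2
  have h2 : r = 3 ∨ r = 5 := by
    rw [show 360 = 2 ^ 3 * (3 ^ 2 * 5) by norm_num, hr.dvd_mul, hr.dvd_mul] at h1
    rcases h1 with h1 | h1 | h1
    · exact absurd ((Nat.prime_dvd_prime_iff_eq hr Nat.prime_two).1 (hr.dvd_of_dvd_pow h1)).symm hpr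
    · exact Or.inl ((Nat.prime_dvd_prime_iff_eq hr Nat.prime_three).1 (hr.dvd_of_dvd_pow h1))
    · exact Or.inr ((Nat.prime_dvd_prime_iff_eq hr Nat.prime_five).1 h1)
  rcases h2 with rfl | rfl
  · exact exo_three hxN hyo ((phi_fix e).2 (mem_Cz.1 hy.2 x (hVD hx)))
  · have h3 : Commute σ (e ⟨y, hy.1⟩) := (hcomm ⟨y, hy.1⟩ hσ.symm).1 (mem_Cz.1 hy.2 v (hVD hv))
    have h4 : ((e ⟨y, hy.1⟩ : alternatingGroup (Fin 6)) : Perm (Fin 6)) ^ 5 = 1 := by
      rw [← hyo, ← orderOf_coe, pow_orderOf_eq_one]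
    rcases six_ten (σ * e ⟨y, hy.1⟩) (by
      rw [h3.mul_pow, show 10 = 2 * 5 from rfl, pow_mul, hσ2, one_pow, one_mul, mul_comm, pow_mul, h4, one_pow]) with h5 | h5
    · rw [h3.mul_pow, h4, mul_one, show 5 = 2 * 2 + 1 from rfl, pow_succ, pow_mul, hσ2, one_pow, one_mul] at h5
      exact hσ1 h5
    · rw [h3.mul_pow, hσ2, one_mul] at h5
      have h6 := orderOf_dvd_of_pow_eq_one h5
      rw [orderOf_coe, hyo] at h6
      omega

end

/-- **The row of the alternating groups.** -/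
theorem kAlt : KAlt.{u} := by
  rintro p _ X _ _ S D h ⟨n, hn, ⟨e⟩⟩
  exact out_alt h hn e

end Cfsg.Agent.TID.K2
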