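import Cfsg.Agent.TID.K2.SpAbs
import Cfsg.Agent.H283.BRow
import Cfsg.Agent.H283.FourSpor

/-!
# The row `KSporTwo`: the Baby Monster (helper5, project TID)

The frame of the proof is the one of `H283/BFour.lean`.
-/

set_option autoImplicit false
set_option maxRecDepth 100000
set_option linter.unusedSectionVars false
set_option maxHeartbeats 400000

namespace Cfsg.Agent.TID.K2.Baby

open Subgroup Cfsg Cfsg.Agent.CTwoTab Cfsg.Agent.CpAut Cfsg.Agent.CpAut.TwoAbs Cfsg.Agent.SevenCases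
open Cfsg.Agent.BabyComp Cfsg.Agent.BabyComp.NoSpec

universe u v

theorem flip_conj {X : Type u} [Group X] (g u : X) (K : Subgroup X)
    (h : FlipK u (K.map (MulAut.conj g⁻¹).toMonoidHom)) : FlipK (g * u * g⁻¹) K := by
  refine FlipK.of_equiv (MulAut.conj g) ?_
  rwa [map_inv] at h

/-- `X₀` has index at most two in `C(d)` -/
def Idx {X : Type u} [Group X] (d : X) (X₀ : Subgroup X) : Prop :=
  ∀ a b : X, a * d = d * a → b * d = d * b → a ∉ X₀ → b ∉ X₀ → a * b ∈ X₀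

section main

variable {X : Type u} [Group X] [Finite X] {E : Type v} [Group E] [Finite E]

/-- the transpositions -/
theorem case_one [IsSimpleGroup E] {t : X} {X₀ : Subgroup X} {σ : ↥X₀ →* E}
    (H : Sec.Data t σ) : Bd 2 t := by
  refine Bd.of_one fun K hK s hst hsK => ?_
  have hKX : K ≤ X₀ := H.perf K hK.1 (isPerfect_of_comp hK)
  have hXC : X₀ ≤ centralizer ({t} : Set X) := fun m hm => mem_centralizer_singleton_iff.2 (H.comm m hm)
  obtain ⟨f, hf, hk, -⟩ := TwoA.exists_hom H hK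
  have hK' := Abs.comp_mono hK hKX hXC
  have h1 : (K.subgroupOf X₀).map σ = ⊤ := by
    rcases H283.NoIn.subnormal_simple (hK'.2.1.map H.surj) with h | h
    · exfalso
      obtain ⟨e, he⟩ := exists_ne (1 : E)
      obtain ⟨k, rfl⟩ := hf e
      apply he
      rw [hk]
      have h2 : σ ⟨k, hKX k.2⟩ ∈ (K.subgroupOf X₀).map σ := ⟨⟨k, hKX k.2⟩, k.2, rfl⟩
      rw [h, mem_bot] at h2
      exact (H.ker _).1 h2
    · exact h
  refine H.cen s hst fun m hm => Or.inl ?_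
  have h2 : σ ⟨m, hm⟩ ∈ (K.subgroupOf X₀).map σ := by rw [h1]; exact mem_top _
  obtain ⟨k, hkK, hkm⟩ := h2
  have h3 := hsK k hkK
  rcases H.map_eq.1 hkm.symm with h4 | h4 <;> rw [show m = _ from h4]
  · rw [h3, mul_inv_cancel_right]
  · calc s * (k * t) * s⁻¹ = (s * k) * t * s⁻¹ := by group
      _ = k * (s * t) * s⁻¹ := by rw [h3]; group
      _ = k * t := by rw [hst]; group

theorem case_two
    (hE : ∀ v : E, orderOf v = 2 → IsOfCharacteristicTwo ↥(centralizer ({v} : Set E))) [IsSimpleGroup E]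
    {T : Set X} (HT : Pair.Trans T)
    (hsec : ∀ d ∈ T, ∃ (X₀ : Subgroup X) (σ : ↥X₀ →* E), Sec.Data d σ ∧ Idx d X₀)
    {u d : X} (hu : u * u = 1) (hu1 : u ≠ 1) (hd : d ∈ T) (hc : u * d = d * u) (hud : u * d ∈ T)
    (hb : centralizerPPrimeCore 2 u = ⊥) {K : Subgroup X}
    (hK : IsComponentOf K (centralizer ({u} : Set X))) : FlipK u K := by
  have hp : Fact (Nat.Prime 2) := ⟨Nat.prime_two⟩
  have hKd := Pair.comm_of_pair HT hu hu1 hd hc hud hK
  -- `K` is not a component of `C(d)`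
  have hno : ¬ IsComponentOf K (centralizer ({d} : Set X)) := by
    intro hKd'
    obtain ⟨X₀, σ, H, x, L, hx2, hx, hs, hna, hLn, hCL, hct, ⟨e⟩⟩ :=
      CaseTwo.main hE HT (fun d hd => (hsec d hd).imp fun _ h => h.imp fun _ h => h.1) hu hu1 hd hc hud hb hK
    obtain ⟨f, hf, -, -⟩ := TwoA.exists_hom H hKd'
    have h1 : Nat.card E ≤ Nat.card ↥K := Nat.card_le_card_of_surjective f hf
    have h2 : Nat.card ↥K ≤ Nat.card ↥(fixedSubgroup x) := by
      rw [Nat.card_congr e.toEquiv]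
      exact Nat.card_le_card_of_injective _ L.subtype_injective
    have h3 : fixedSubgroup x = ⊤ := by
      rw [← card_eq_iff_eq_top]
      exact le_antisymm (Nat.card_le_card_of_injective _ (fixedSubgroup x).subtype_injective) (h1.trans h2)
    have h4 : x = 1 := by
      ext y
      have h5 : y ∈ fixedSubgroup x := by rw [h3]; exact mem_top y
      exact h5
    rw [h4, orderOf_one] at hx2
    omega
  obtain ⟨X₀, σ, H, hI⟩ := hsec d hd
  refine ⟨d, HT.sq d hd, hc.symm, fun A h1 h2 _ h4 _ h6 => ?_⟩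
  have h7 : A ⊓ X₀ = ⊥ := by
    by_contra h7
    obtain ⟨w, hw, hw2, -⟩ := exists_fix (P := ⊥) IsPGroup.of_bot (h1.to_le (inf_le_left (b := X₀))) h7 bot_le
    obtain ⟨hww, hw1⟩ := sq_of_two hw2
    have h8 := h6 w hw.1 hw1
    have hwd : w ≠ d := fun h => hno (h ▸ h8)
    have hc' : w * d = d * w := (mem_C1.1 (h4 hw.1)).symm
    obtain ⟨x, hx, -⟩ := Sec.exists_aut H hc' hww
    obtain ⟨L, -, hL, -⟩ := Sec.exists_comp H hc' hx h8 fun k hk => mem_centralizer_singleton_iff.2 (hKd k hk)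
    have h9 : x = MulAut.conj (σ ⟨w, hw.2⟩) := by
      ext e
      obtain ⟨m, rfl⟩ := H.surj e
      rw [hx, MulAut.conj_apply, ← map_inv, ← map_mul, ← map_mul]
      rfl
    have h10 : orderOf (σ ⟨w, hw.2⟩) = 2 := by
      refine two_of_sq ?_ fun h => ((H.ker _).1 h).elim hw1 hwd
      rw [← map_mul, show (⟨w, hw.2⟩ * ⟨w, hw.2⟩ : X₀) = 1 from Subtype.ext hww, map_one]
    have h11 := hE _ h10
    rw [← H283.FourSpor.fixed_conj, ← h9] at h11
    exact no_component_of_ct h11 L hL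
  have h8 : ∀ a ∈ A, a ≠ 1 → a ∉ X₀ := fun a ha ha1 haX => ha1 (mem_bot.1 (h7 ▸ mem_inf.2 ⟨ha, haX⟩))
  refine card_le_two (s := u) fun s hs => ?_
  by_cases hs1 : s = 1
  · exact Or.inl hs1
  right
  have h9 := hI s u (mem_C1.1 (h4 hs)).symm hc (h8 s hs hs1) (h8 u h2 hu1)
  have h10 : s * u = 1 := by
    by_contra h10
    exact h8 _ (mul_mem hs h2) h10 h9
  rw [eq_inv_of_mul_eq_one_left h10, inv_eq_of_mul_eq_one_left hu]

end main

section idx

open Cfsg.Agent.R01.Lifts Cfsg.Agent.MonsterN Cfsg.Agent.MonsterN.Lit Cfsg.Agent.BabyComp.Main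

theorem idx_five {B : Type*} {X : Type u} [Group B] [Group X] [Finite B] [Finite X] {q : B →* X} {τ : B} {y : ℕ → B} (hq : Ext q τ)
    (h10 : y 10 = τ) : Idx (q (y 5)) ((KK y).map q) := by
  intro a b ha hb ha1 hb1
  obtain ⟨a, rfl⟩ := hq.surj a
  obtain ⟨b, rfl⟩ := hq.surj b
  have h1 := (hq.conj_of_commute ha).resolve_left fun h => ha1 ⟨a, (mem_KK' hq h10).2 h, rfl⟩
  have h2 := (hq.conj_of_commute hb).resolve_left fun h => hb1 ⟨b, (mem_KK' hq h10).2 h, rfl⟩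
  refine ⟨a * b, (mem_KK' hq h10).2 ?_, map_mul q a b⟩
  calc a * b * y 5 * (a * b)⁻¹ = a * (b * y 5 * b⁻¹) * a⁻¹ := by group
    _ = a * y 5 * (τ * a⁻¹) := by rw [h2]; group
    _ = a * y 5 * a⁻¹ * τ := by rw [← hq.comm]; group
    _ = y 5 := by rw [h1, mul_assoc, hq.zz, mul_one]

theorem Idx.comap {X : Type u} [Group X] {d : X} {X₀ : Subgroup X} (h : Idx d X₀) (e : X ≃* X) :
    Idx (e.symm d) (X₀.comap e.toMonoidHom) := by
  intro a b ha hb ha1 hb1
  have key : ∀ c, c * e.symm d = e.symm d * c → e c * d = d * e c := fun c hc => by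
    have h1 := congrArg e hc
    rwa [map_mul, map_mul, e.apply_symm_apply] at h1
  have h1 := h (e a) (e b) (key a ha) (key b hb) ha1 hb1
  rwa [← map_mul] at h1

end idx

end Cfsg.Agent.TID.K2.Baby

namespace Cfsg.Agent.TID.K2.Baby

open Subgroup Cfsg Cfsg.Lie Cfsg.Agent.Bimonster Cfsg.Agent.BabyU Cfsg.Agent.TwoESix.Cover
open Cfsg.Agent.MonsterX.KSide Cfsg.Agent.MonsterX.KLift Cfsg.Agent.MonsterX.KModel
open Cfsg.Agent.MonsterX.Model Cfsg.Agent.MonsterX.MainPack Cfsg.Agent.MonsterX.MainSimple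
open Cfsg.Agent.MonsterX.MainBasic Cfsg.Agent.MonsterU.Assembly Cfsg.Agent.MonsterN Cfsg.Agent.MonsterN.Lit
open Cfsg.Agent.MonsterN.LitInst Cfsg.Agent.MonsterU.Lam2 Cfsg.Agent.MonsterU.TwoCls
open Cfsg.Agent.BabyComp Cfsg.Agent.BabyComp.Par

variable {V P W : Type} [AddCommGroup V] [Module ℚ V] [Group P] [AddCommGroup W] [Module ℚ W]
  {D : MData V} {M : KS ↥D.G V P W} {x₀ : P} {θ : leechLattice → P} {K₀ : Type} [Group K₀]

/-- **The involutions of the Baby Monster.** -/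
theorem pack_of (A : All D K₀) (H : Link D M x₀) (L : Lift M θ) {τ : D.G} {y' : P}
    (T : Cfsg.Agent.MonsterU.InvTwo.TauHyp M θ ⊤ τ y') {y : ℕ → D.G} (hP : PRel y) (hne : y 0 ≠ y 1)
    (hy : ∃ g : D.G, g * tG A.hG A.hR * g⁻¹ = y 10)
    (bal : ∀ u : Spor.BabyMonster, orderOf u = 2 → centralizerPPrimeCore 2 u = ⊥) :
    ∀ u : Spor.BabyMonster, orderOf u = 2 → ∀ K : Subgroup Spor.BabyMonster,
      IsComponentOf K (centralizer ({u} : Set Spor.BabyMonster)) → FlipK u K := by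
  have hfin : Finite D.G := G_finite A.hO
  have hB : Cfsg.IsB Cfsg.Spor.BabyMonster := Cfsg.Agent.S1704.result
  obtain ⟨⟨h1, h2, h3⟩, h43⟩ := ModelB.fieldsKS A H L hP hne hy hB H.x₀_mem
  obtain ⟨f₁, f₂, f₃, f₄, Fc, hcz, hcd, p, hp, hp2, hp2'⟩ := FusInst.exists_facts A H L T H.x₀_mem
  have hzm : M.z ∈ BB M x₀ := mem_centralizer_singleton_iff.2 (by
    show M.ι M.zc * M.ι x₀ = M.ι x₀ * M.ι M.zc
    rw [← map_mul, ← map_mul, M.zc_comm])
  have hE : Emb (BB M x₀).subtype M.z (tb M x₀) f₁ f₂ f₃ :=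
    ⟨Subtype.val_injective, nineteen H A, ((BB M x₀).subtype.map_isConj (hcz hzm)).symm, hcd⟩
  -- the group `²E₆(2)`
  let K := GaloisField 2 2
  let _i : Fintype K := Fintype.ofFinite K
  have hK : Fintype.card K = 4 := by
    rw [← Nat.card_eq_fintype_card]
    exact GaloisField.card 2 2 (by norm_num)
  have hF : Fintype.card K = 2 ^ 2 := by rw [hK]; norm_num
  have hsE := EInst.isSimple K hK
  obtain ⟨e0, r, he0, hgen, hr, -, hconj⟩ := TwoESix.GoodInst.exists_good K hK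
  have hR : ∀ i, e0 i ∈ rootClass K := fun i => by
    obtain ⟨g, hg⟩ := hconj i
    exact ⟨g, r, hr, hg⟩
  have hHB : Finite HB := Cfsg.Agent.BM.HBFinal.finite_HB
  have hcard := Cfsg.Agent.BM.HBFinal.hcard K hK
  have big_a : KEq.Big (BB M x₀) (tb M x₀) f₁ := by
    have hm : M.ι p ∈ BB M x₀ := by rw [← hp]; exact f₁.2
    have e : f₁ = ⟨M.ι p, hm⟩ := Subtype.ext hp
    rw [e]
    exact BigAConf.big_a L T H.x₀_mem h43 hp2 hp2'
  obtain ⟨q, yB, hpre, π, hq, h10, DK, hc5, hq5⟩ :=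
    NodesB.nodes he0 hgen hcard (Cfsg.Agent.BM.HBFinal.card_E K hK) hR h1 h2 h3 Fc hE
  obtain ⟨M₁, Bs⟩ := BaseB.exists_base hq5
  have hfX : Finite Spor.BabyMonster := Finite.of_surjective q hq.surj
  have big : KEq.Big (BB M x₀) (tb M x₀) (yB 5) := big_a.conj (fun x => (Fc.cen x).symm) hc5
  have hz : M.z = zG A.hG := Subtype.ext H.z_eq.symm
  have hL : Cfsg.Agent.Co2Type.Quad.Large (D.Q.subgroupOf D.G) M.z := by
    rw [hz]
    exact Cfsg.Agent.MonsterU.ModelChart.large A.hG A.hR A.hL A.hO A.hT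
  have hr : ∀ x : D.G, x * (BB M x₀).subtype (tb M x₀) = (BB M x₀).subtype (tb M x₀) * x →
      ∃ b, (BB M x₀).subtype b = x := fun x hx => ⟨⟨x, mem_centralizer_singleton_iff.2 hx⟩, rfl⟩
  obtain ⟨σ, hσ⟩ := Main.exists_sigma hq h10 DK
  have HD := Main.data hq h10 DK big hσ
  intro u hu K' hK'
  refine H283.BRow.comp_all' (E := twistedE6 K 2) (hF := hF) hq h10 DK Fc hE.inj hr hE.conj_z hE.conj_d hL hc5 big
      (Cfsg.Agent.TwoESix.LeviG.rootFacts hK hF) (KeyInst.extra hF) (Cfsg.Agent.TwoESix.RootsInst.roots K hF)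
      Bs (Pr := FlipK) flip_conj ?_ ?_ u hu K' hK'
  · intro K₁ hK₁
    exact (case_one HD).flip K₁ hK₁
  · intro u d huu hu1 hd hc hud K₁ hK₁
    have hu2 : orderOf u = 2 := orderOf_eq_prime (by rw [pow_two, huu]) hu1
    refine case_two (EFacts.charTwo K hK) (Bs.trans HD.t_sq HD.t_ne) ?_ huu hu1 hd hc hud (bal u hu2) hK₁
    intro d hd
    obtain ⟨g, rfl⟩ := isConj_iff.1 hd
    have h1 := HD.comap (MulAut.conj g⁻¹)
    have h3 := (idx_five hq h10).comap (MulAut.conj g⁻¹)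
    have h2 : (MulAut.conj g⁻¹).symm (q (yB 5)) = g * q (yB 5) * g⁻¹ := by
      rw [MulEquiv.symm_apply_eq, MulAut.conj_apply]
      group
    rw [h2] at h1 h3
    exact ⟨_, _, h1, h3⟩

end Cfsg.Agent.TID.K2.Baby

namespace Cfsg.Agent.TID.K2.Baby

open Subgroup
open Cfsg Cfsg.Agent.MonsterX Cfsg.Agent.MonsterX.Space Cfsg.Agent.MonsterX.Conc Cfsg.Agent.MonsterX.Model
open Cfsg.Agent.MonsterX.InstData Cfsg.Agent.MonsterX.MainPack Cfsg.Agent.MonsterU
open Cfsg.Agent.MonsterP Cfsg.Agent.MonsterP.NodeData Cfsg.Agent.MonsterP.NodesConj Cfsg.Agent.CTwoTab.BInst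

/-- **The presented Baby Monster.** -/
theorem rf_model : RF Spor.BabyMonster :=
  pack_of all KDone.lnk KDone.lft
    (TauInst.tauHyp (Final.cent InstanceFinal.mOrbit Instance.mTrans)) (NodesGrp.prel H) (NodesNe.ne H)
    conj_ten CTwoTab.B.bal

/-- **`B`** -/
theorem rf {X : Type*} [Group X] (h : Spor.IsoB X) : RF X := by
  obtain ⟨e⟩ := h
  exact RF.of_equiv e.symm rf_model

end Cfsg.Agent.TID.K2.Baby
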