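import Cfsg.Agent.TID.K2.SpRows
import Cfsg.Agent.TID.K2.SpB
import Cfsg.Agent.H489.OutSpor
import Cfsg.Agent.H516.GoodSpor
import Cfsg.Agent.EvenType.ChevTwoTits

/-!
# The row `KSporTwo` (helper5, project TID)
-/

set_option autoImplicit false
set_option maxHeartbeats 400000

namespace Cfsg.Agent.TID.K2

open Cfsg Subgroup
open Cfsg.Agent.CTwoTab Cfsg.Agent.H287 Cfsg.Agent.CpAut

universe u

theorem row_spor {X : Type u} [Group X] [Finite X] [IsSimpleGroup X] (hna : ¬ IsMulCommutative X)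
    (hs : Lie.IsoTits X ∨ IsSporadicGroup X) : Row X := by
  have hz : center X = ⊥ := CTwoTab.center_eq_bot_of_simple hna
  have no : CompCard NoC X → Row X := fun h => Or.inl (RB.of_none h)
  rcases hs with h | h | h | h | h | h | h | h | h | h | h | h | h | h | h | h | h | h | h | h | h | h | h | h | h | h | h
  · exact no (compCard_of_ct (TwoCT.allCT (EvenType.ChevTwoTits.charTwo h)))
  · exact no ((fix_m11 h).compCard hz)
  · exact Or.inl (rb_m12 h)
  · exact no (compCard_m22 h)
  · exact no ((fix_m23 h).compCard hz)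
  · exact no ((fix_m24 h).compCard hz)
  · exact Or.inl (rb_j1 h)
  · exact Or.inr (Or.inr (Or.inr (row_j2 h)))
  · exact no (compCard_j3 h)
  · exact no ((fix_j4 h).compCard hz)
  · have h1 := rb_co1 h
    obtain ⟨e⟩ := h
    exact Or.inr (Or.inl ⟨TwoInner.inner_congr e fun α => inner_of_out S2069.result α, Or.inl h1⟩)
  · exact no ((fix_co2 h).compCard hz)
  · exact Or.inl (rb_co3 h)
  · exact Or.inl (rb_mcl h)
  · exact Or.inl (rb_hs h)
  · exact Or.inr (Or.inr (Or.inr (row_suz h)))
  · exact Or.inr (Or.inr (Or.inr (row_he h)))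
  · have h1 := rb_ru h
    obtain ⟨e⟩ := h
    exact Or.inr (Or.inl ⟨TwoInner.inner_congr e fun α => inner_of_out S2077.result α, Or.inl h1⟩)
  · exact Or.inr (Or.inr (Or.inl (row_on h)))
  · exact Or.inl (rb_ly h)
  · exact Or.inl (rb_fi22 h)
  · have h1 := rf_fi23 h
    obtain ⟨e⟩ := h
    exact Or.inr (Or.inl ⟨TwoInner.inner_congr e fun α => inner_of_out S2080.result α, Or.inr h1⟩)
  · exact Or.inr (Or.inr (Or.inl (row_fi24 h)))
  · exact Or.inr (Or.inr (Or.inl (row_hn h)))
  · exact no ((fix_th h).compCard hz)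
  · have h1 := Baby.rf h
    obtain ⟨e⟩ := h
    exact Or.inr (Or.inl ⟨TwoInner.inner_congr e fun α => inner_of_out S2084.result α, Or.inr h1⟩)
  · exact Or.inl (rb_m h)

/-- **The row `KSporTwo`.** -/
theorem kSporTwo : KSporTwo.{u} := by
  rintro p _ X _ _ S D h ⟨rfl, hs⟩
  have := h.soc.simple
  exact out_of_row h (hs.elim H489.card_out_tits H489.card_out_sporadic) (H516.core_of_spor hs.symm)
    (row_spor h.soc.nonab hs)

end Cfsg.Agent.TID.K2
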