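import Cfsg.Agent.TID.Basic
import Cfsg.Agent.H283.NoIn
import Cfsg.Prelude.Def_KGroupFacts

/-!
# The row `KSporTwo`: the abstract part (helper5, project TID)

Properties of a simple group `T` (`Bd`, `Flip`, `Cls`, `NoOut`, `NoOut0`), their transport, and the reduction `out_of_row`.
-/

set_option autoImplicit false
set_option linter.unusedSectionVars false
set_option maxHeartbeats 400000

namespace Cfsg.Agent.TID.K2

open Cfsg Subgroup
open Cfsg.Agent.CTwoTab Cfsg.Agent.SignalizersComponents.Components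
open Cfsg.Agent.H283.NoIn (Own subnormal_simple of_center)

universe u v

section defs

variable {T : Type u} [Group T]

/-- the subgroups of `C(s) ∩ C(K)` have order at most `n` -/
def Bd (n : ℕ) (s : T) : Prop :=
  ∀ K : Subgroup T, IsComponentOf K (C1 s) → ∀ E : Subgroup T, E ≤ C1 s → E ≤ Cz K → Nat.card E ≤ n

/-- an element `d` of `C(s)` which centralizes only `s` -/
def FlipK (s : T) (K : Subgroup T) : Prop :=
  ∃ d : T, d * d = 1 ∧ d * s = s * d ∧ ∀ E : Subgroup T, IsPGroup 2 E → s ∈ E → E ≤ C1 s → E ≤ C1 d → E ≤ Cz K →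
    (∀ w ∈ E, w ≠ 1 → IsComponentOf K (C1 w)) → Nat.card E ≤ 2

/-- `FlipK` for all the components -/
def Flip (s : T) : Prop := ∀ K : Subgroup T, IsComponentOf K (C1 s) → FlipK s K

variable (T) in
/-- `Bd` for all the involutions -/
def RB (n : ℕ) : Prop := ∀ s : T, orderOf s = 2 → Bd n s

variable (T) in
/-- `Flip` for all the involutions -/
def RF : Prop := ∀ s : T, orderOf s = 2 → Flip s

variable (T) in
/-- one class of involutions with a component in the centralizer -/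
def Cls : Prop := ∃ s : T, ∀ t : T, orderOf t = 2 → ∀ K : Subgroup T, IsComponentOf K (C1 t) → IsConj s t

variable (T) in
/-- no outer involution -/
def NoOut0 : Prop := ∀ (K : Subgroup T) (t : T) (α : MulAut T), orderOf t = 2 → IsComponentOf K (C1 t) → orderOf α = 2 →
  (¬ ∃ g : T, α = MulAut.conj g) → α t = t → IsComponentOf K (fixedSubgroup α) → False

variable (T) in
/-- no outer involution, weak form -/
def NoOut : Prop := ∀ (E K : Subgroup T) (t : T) (α : MulAut T), t ∈ E → Nat.card E ≤ 4 → fixedSubgroup α ≤ Nz E →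
  orderOf t = 2 → IsComponentOf K (C1 t) → orderOf α = 2 →
  (¬ ∃ g : T, α = MulAut.conj g) → α t = t → IsComponentOf K (fixedSubgroup α) → False

variable (T) in
/-- what is used about the group -/
def Row : Prop := RB T 2 ∨ ((∀ α : MulAut T, ∃ g : T, α = MulAut.conj g) ∧ (RB T 4 ∨ RF T)) ∨ (Own T ∧ NoOut0 T) ∨
  (RB T 4 ∧ Cls T ∧ NoOut T)

theorem NoOut0.noOut (h : NoOut0 T) : NoOut T := fun _ K t α _ _ _ => h K t α

theorem Bd.flip {s : T} (h : Bd 2 s) : Flip s := fun K hK =>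
  ⟨1, mul_one 1, by rw [one_mul, mul_one], fun E _ _ h1 _ h2 _ => h K hK E h1 h2⟩

theorem Bd.of_none {n : ℕ} {s : T} (h : ∀ K : Subgroup T, ¬ IsComponentOf K (centralizer ({s} : Set T))) : Bd n s :=
  fun K hK => absurd hK (h K)

theorem Flip.of_none {s : T} (h : ∀ K : Subgroup T, ¬ IsComponentOf K (centralizer ({s} : Set T))) : Flip s :=
  fun K hK => absurd hK (h K)

theorem card_le_two {E : Subgroup T} {s : T} (h : ∀ x ∈ E, x = 1 ∨ x = s) : Nat.card E ≤ 2 := by
  have h1 : (E : Set T) ⊆ {1, s} := fun x hx => h x hx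
  have h2 := (Set.ncard_le_ncard h1 (Set.toFinite _)).trans (Set.ncard_insert_le 1 {s})
  rwa [← Nat.card_coe_set_eq, Set.ncard_singleton] at h2

theorem mem_of_card_le_two [Finite T] {E : Subgroup T} (h : Nat.card E ≤ 2) {s x : T} (hs : s ∈ E) (hs1 : s ≠ 1)
    (hx : x ∈ E) : x = 1 ∨ x = s := by
  by_contra hcon
  push Not at hcon
  have h1 : ({1, s, x} : Set T) ⊆ (E : Set T) := by
    rintro y (rfl | rfl | rfl)
    exacts [E.one_mem, hs, hx]
  have h2 := Set.ncard_le_ncard h1 (Set.toFinite _)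
  have h3 : ({1, s, x} : Set T).ncard = 3 := Set.ncard_eq_three.2 ⟨1, s, x, hs1.symm, hcon.1.symm, hcon.2.symm, rfl⟩
  rw [h3, ← Nat.card_coe_set_eq] at h2
  have h4 : Nat.card (E : Set T) = Nat.card E := rfl
  omega

/-- elementwise form, `n = 2` -/
theorem Bd.of_one {s : T} (h : ∀ K : Subgroup T, IsComponentOf K (centralizer ({s} : Set T)) →
    ∀ x : T, x * s = s * x → (∀ k ∈ K, x * k = k * x) → x = 1 ∨ x = s) : Bd 2 s := fun K hK _ h1 h2 =>
  card_le_two fun x hx => h K hK x (mem_C1.1 (h1 hx)).symm fun k hk => (mem_Cz.1 (h2 hx) k hk).symm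

/-- a subgroup containing `C(s) ∩ C(K)` -/
theorem Bd.of_sub [Finite T] {n : ℕ} {s : T} (h : ∀ K : Subgroup T, IsComponentOf K (centralizer ({s} : Set T)) →
    ∃ V : Subgroup T, Nat.card V ≤ n ∧ ∀ x : T, x * s = s * x → (∀ k ∈ K, x * k = k * x) → x ∈ V) : Bd n s := by
  intro K hK E h1 h2
  obtain ⟨V, h3, h4⟩ := h K hK
  exact (card_le_of_le fun x hx => h4 x (mem_C1.1 (h1 hx)).symm fun k hk => (mem_Cz.1 (h2 hx) k hk).symm).trans h3

end defs

section transport

variable {T : Type u} {Y : Type v} [Group T] [Group Y]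

theorem comp_symm (e : T ≃* Y) {s : T} {K : Subgroup Y} (hK : IsComponentOf K (C1 (e s))) :
    IsComponentOf (K.map e.symm.toMonoidHom) (C1 s) := by
  have h1 := isComponentOf_map e.symm hK
  rwa [map_centralizer_singleton, e.symm_apply_apply] at h1

theorem le_C1_symm (e : T ≃* Y) {s : T} {E : Subgroup Y} (h : E ≤ C1 (e s)) : E.map e.symm.toMonoidHom ≤ C1 s := by
  rintro _ ⟨x, hx, rfl⟩
  refine mem_C1.2 (e.injective ?_)
  change e (s * e.symm x) = e (e.symm x * s)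
  rw [map_mul, map_mul, e.apply_symm_apply, mem_C1.1 (h hx)]

theorem le_Cz_map (e : T ≃* Y) {E K : Subgroup T} (h : E ≤ Cz K) : E.map e.toMonoidHom ≤ Cz (K.map e.toMonoidHom) := by
  rintro _ ⟨x, hx, rfl⟩
  refine mem_Cz.2 ?_
  rintro _ ⟨k, hk, rfl⟩
  rw [← map_mul, ← map_mul, mem_Cz.1 (h hx) k hk]

theorem Bd.of_equiv (e : T ≃* Y) {n : ℕ} {s : T} (h : Bd n s) : Bd n (e s) := by
  intro K hK E h1 h2
  have h3 := h _ (comp_symm e hK) _ (le_C1_symm e h1) (le_Cz_map e.symm h2)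
  rwa [card_map_of_injective e.symm.injective] at h3

theorem FlipK.of_equiv (e : T ≃* Y) {s : T} {K : Subgroup Y} (h : FlipK s (K.map e.symm.toMonoidHom)) : FlipK (e s) K := by
  obtain ⟨d, h1, h2, h3⟩ := h
  refine ⟨e d, by rw [← map_mul, h1, map_one], by rw [← map_mul, h2, map_mul], fun E h4 h5 h6 h7 h8 h9 => ?_⟩
  have h10 := h3 (E.map e.symm.toMonoidHom) (h4.map _) ⟨e s, h5, e.symm_apply_apply s⟩ (le_C1_symm e h6) (le_C1_symm e h7)
    (le_Cz_map e.symm h8) (by
      rintro _ ⟨w, hw, rfl⟩ hw1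
      refine comp_symm e ?_
      change IsComponentOf K (C1 (e (e.symm w)))
      rw [e.apply_symm_apply]
      exact h9 w hw fun h0 => hw1 (by rw [h0, map_one]))
  rwa [card_map_of_injective e.symm.injective] at h10

theorem Flip.of_equiv (e : T ≃* Y) {s : T} (h : Flip s) : Flip (e s) := fun _ hK => (h _ (comp_symm e hK)).of_equiv e

theorem Bd.conj {n : ℕ} {s : T} (h : Bd n s) (g : T) : Bd n (g * s * g⁻¹) := h.of_equiv (MulAut.conj g)

theorem Flip.conj {s : T} (h : Flip s) (g : T) : Flip (g * s * g⁻¹) := h.of_equiv (MulAut.conj g)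

theorem RB.of_equiv (e : T ≃* Y) {n : ℕ} (h : RB T n) : RB Y n := by
  intro t ht
  have h1 := (h (e.symm t) (by rw [MulEquiv.orderOf_eq, ht])).of_equiv e
  rwa [e.apply_symm_apply] at h1

theorem RF.of_equiv (e : T ≃* Y) (h : RF T) : RF Y := by
  intro t ht
  have h1 := (h (e.symm t) (by rw [MulEquiv.orderOf_eq, ht])).of_equiv e
  rwa [e.apply_symm_apply] at h1

theorem RB.mk_of_classes {n : ℕ} (P : T → Prop) (h : ∀ t : T, orderOf t = 2 → ∃ g s : T, P s ∧ t = g * s * g⁻¹)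
    (hP : ∀ s : T, P s → Bd n s) : RB T n := by
  intro t ht
  obtain ⟨g, s, hs, rfl⟩ := h t ht
  exact (hP s hs).conj g

theorem RF.mk_of_classes (P : T → Prop) (h : ∀ t : T, orderOf t = 2 → ∃ g s : T, P s ∧ t = g * s * g⁻¹)
    (hP : ∀ s : T, P s → Flip s) : RF T := by
  intro t ht
  obtain ⟨g, s, hs, rfl⟩ := h t ht
  exact (hP s hs).conj g

theorem Cls.of_equiv (e : T ≃* Y) (h : Cls T) : Cls Y := by
  obtain ⟨s, hs⟩ := h
  refine ⟨e s, fun t ht K hK => ?_⟩
  rw [← e.apply_symm_apply t] at hK ⊢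
  exact e.toMonoidHom.map_isConj (hs _ (by rw [MulEquiv.orderOf_eq, ht]) _ (comp_symm e hK))

/-- two classes, no component for the first one -/
theorem Cls.of_two {z s : T} (h : ∀ t : T, orderOf t = 2 → IsConj z t ∨ IsConj s t)
    (hz : ∀ K : Subgroup T, ¬ IsComponentOf K (centralizer ({z} : Set T))) : Cls T := by
  refine ⟨s, fun t ht K hK => (h t ht).resolve_left fun h1 => ?_⟩
  obtain ⟨g, rfl⟩ := isConj_iff.1 h1
  exact hz _ (comp_symm (MulAut.conj g) hK)

theorem RB.of_none {n : ℕ} (h : CompCard (fun _ _ => False) T) : RB T n := fun s hs K hK => (h s hs K hK).elim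

end transport

section crit

variable {T : Type u} [Group T]

/-- `N ≤ C(t)` maps onto a simple group: an element of `N` centralizing a component `K ≤ N` lies in the kernel -/
theorem ker_of_cent {U : Type v} [Group U] [IsSimpleGroup U] (hna : ¬ IsMulCommutative U) {C N K : Subgroup T}
    (hNC : N ≤ C) (hK : IsComponentOf K C) (hKN : K ≤ N) {f : N →* U} (hf : Function.Surjective f)
    (hk : ∀ x y : N, f x = 1 → f y = 1 → (x : T) * y = y * x) {s : N} (hs : ∀ k ∈ K, (s : T) * k = k * s) : f s = 1 := by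
  have hcU := center_eq_bot_of_simple hna
  have hsub : (K.subgroupOf N).IsSubnormal := hK.2.1.comap (inclusion hNC)
  have h1 : (K.subgroupOf N).map f = ⊤ := by
    rcases subnormal_simple (hsub.map hf) with h | h
    · exfalso
      apply quasisimple_not_isMulCommutative (isQuasisimple_of_mulEquiv (subgroupOfEquivOfLe hK.1) hK.2.2)
      have h2 : ∀ a : K, f ⟨a, hKN a.2⟩ = 1 := fun a => by
        rw [← mem_bot, ← h]
        exact mem_map_of_mem f a.2
      exact ⟨⟨fun a b => Subtype.ext (hk _ _ (h2 a) (h2 b))⟩⟩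
    · exact h
  have h2 : f s ∈ center U := by
    rw [mem_center_iff]
    intro u
    have hu : u ∈ (K.subgroupOf N).map f := by rw [h1]; exact mem_top u
    obtain ⟨k, hk, rfl⟩ := hu
    rw [← map_mul, ← map_mul]
    congr 1
    exact Subtype.ext (hs k (mem_subgroupOf.1 hk)).symm
  rwa [hcU, mem_bot] at h2

/-- **`C(t) / ⟨t⟩` is simple** -/
theorem Bd.of_hom {U : Type v} [Group U] [IsSimpleGroup U] (hna : ¬ IsMulCommutative U) {t : T}
    {f : ↥(centralizer ({t} : Set T)) →* U} (hf : Function.Surjective f) (hk : ∀ x, f x = 1 → (x : T) = 1 ∨ (x : T) = t) :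
    Bd 2 t := by
  refine Bd.of_one fun K hK s hst hsK => hk ⟨s, mem_centralizer_singleton_iff.2 hst⟩ ?_
  refine ker_of_cent hna le_rfl hK hK.1 hf (fun x y hx _ => ?_) hsK
  rcases hk x hx with h | h
  · rw [h, one_mul, mul_one]
  · rw [h]
    exact (mem_centralizer_singleton_iff.1 y.2).symm

/-- the components equal `C(t)`, with center of order 2 -/
theorem Bd.of_eq {t : T} (ht : t ≠ 1) (h : ∀ K : Subgroup T, IsComponentOf K (centralizer ({t} : Set T)) →
    K = centralizer ({t} : Set T)) (hc : Nat.card ↥(center ↥(centralizer ({t} : Set T))) = 2) : Bd 2 t := by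
  refine Bd.of_one fun K hK s hst hsK => ?_
  have h1 := h K hK
  subst h1
  exact of_center hc (mem_centralizer_singleton_iff.2 rfl) ht
    (fun k hk => (mem_centralizer_singleton_iff.1 hk).symm) (mem_centralizer_singleton_iff.2 hst) hsK

/-- **`C(t)` is quasisimple** -/
theorem Bd.of_top [Finite T] {t : T} (ht : t ≠ 1) (hq : IsQuasisimple ↥(centralizer ({t} : Set T)))
    (hc : Nat.card ↥(center ↥(centralizer ({t} : Set T))) = 2) : Bd 2 t :=
  Bd.of_eq ht (fun _ hK => comp_eq_of_le hq le_rfl hK hK.1) hc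

end crit

section abs

variable {X : Type u} [Group X] [Finite X]

omit [Finite X] in
theorem sq_of_two {t : X} (ht : orderOf t = 2) : t * t = 1 ∧ t ≠ 1 := by
  refine ⟨by rw [← pow_two, ← ht, pow_orderOf_eq_one], ?_⟩
  rintro rfl
  rw [orderOf_one] at ht
  omega

omit [Finite X] in
theorem two_of_sq {t : X} (h1 : t * t = 1) (h2 : t ≠ 1) : orderOf t = 2 := orderOf_eq_prime (by rw [pow_two, h1]) h2

/-- **Lemma A.** -/
theorem le_of_flip {E V : Subgroup X} (hE : IsPGroup 2 E) (hVE : V ≤ E) (hV : IsElementaryAbelian 2 V)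
    (hc : Nat.card V = 2 ^ 2)
    (h : ∀ v ∈ E, orderOf v = 2 → ∃ d ∈ Nz E, d * d = 1 ∧ ∀ x ∈ E, x * v = v * x → x * d = d * x → x = 1 ∨ x = v) :
    E ≤ V := by
  have hp : Fact (Nat.Prime 2) := ⟨Nat.prime_two⟩
  have hE1 : E ≠ ⊥ := fun h0 => el_ne_bot hc (le_bot_iff.1 (h0 ▸ hVE))
  -- the involutions are central
  have hcen : ∀ v ∈ E, v * v = 1 → ∀ x ∈ E, x * v = v * x := by
    intro v hv hvv x hx
    by_cases hv1 : v = 1
    · rw [hv1, one_mul, mul_one]
    obtain ⟨d, hd, hdd, h1⟩ := h v hv (two_of_sq hvv hv1)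
    have h2 : zpowers d ≤ Nz E := zpowers_le.2 hd
    have h3 : IsPGroup 2 (zpowers d) := by
      rintro ⟨_, k, rfl⟩
      refine ⟨1, Subtype.ext ?_⟩
      change (d ^ k) ^ 2 ^ 1 = 1
      rw [pow_one, ← zpow_natCast, ← zpow_mul, mul_comm, zpow_mul, zpow_natCast, pow_two, hdd, one_zpow]
    obtain ⟨z, hz, hz2, hz3⟩ := exists_fix (hE.to_sup_of_normal_left' h3 h2) hE hE1 (sup_le le_normalizer h2)
    rcases h1 z hz (mem_C1.1 (hz3 (mem_sup_left hv))) (mem_C1.1 (hz3 (mem_sup_right (mem_zpowers d)))) with h4 | h4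
    · exact absurd h4 (sq_of_two hz2).2
    · rw [← h4]
      exact (mem_C1.1 (hz3 (mem_sup_left hx))).symm
  obtain ⟨v, hv, hv1⟩ := V.bot_or_exists_ne_one.resolve_left (el_ne_bot hc)
  obtain ⟨w, hw, hwv⟩ := el_exists_not_mem hV hc v hv
  have hvv : v * v = 1 := by rw [← pow_two]; exact hV.2 v hv
  have hww : w * w = 1 := by rw [← pow_two]; exact hV.2 w hw
  obtain ⟨d, hd, hdd, h0⟩ := h v (hVE hv) (two_of_sq hvv hv1)
  have hdi : d⁻¹ = d := inv_eq_of_mul_eq_one_left hdd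
  have h1 : ∀ x ∈ E, d * x * d = x → x = 1 ∨ x = v := fun x hx h2 =>
    h0 x hx (hcen v (hVE hv) hvv x hx) (by
      calc x * d = d * x * d * d := by rw [h2]
        _ = d * x := by rw [mul_assoc, hdd, mul_one])
  have hcj : ∀ x ∈ E, d * x * d ∈ E := fun x hx => by
    have h2 := conj_mem hd hx
    rwa [hdi] at h2
  have hdd' : ∀ x : X, d * (d * x * d) * d = x := fun x => by
    calc d * (d * x * d) * d = (d * d) * x * (d * d) := by group
      _ = x := by rw [hdd, one_mul, mul_one]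
  have hmul : ∀ x y : X, d * (x * y) * d = (d * x * d) * (d * y * d) := fun x y => by
    calc d * (x * y) * d = d * x * (d * d) * y * d := by rw [hdd]; group
      _ = _ := by group
  -- the action on `w`
  have hdw : d * w * d = w * v := by
    have h2 : d * w * d * (d * w * d) = 1 := by rw [← hmul, hww, mul_one, hdd]
    have h3 : d * (w * (d * w * d)) * d = w * (d * w * d) := by
      rw [hmul, hdd', hcen _ (hcj w (hVE hw)) h2 w (hVE hw)]
    rcases h1 _ (mul_mem (hVE hw) (hcj w (hVE hw))) h3 with h4 | h4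
    · exfalso
      have h5 : d * w * d = w := by
        calc d * w * d = w * (w * (d * w * d)) := by rw [← mul_assoc, hww, one_mul]
          _ = w := by rw [h4, mul_one]
      rcases h1 w (hVE hw) h5 with h6 | h6
      · exact hwv (h6 ▸ one_mem _)
      · exact hwv (h6 ▸ mem_zpowers _)
    · rw [← h4, ← mul_assoc, hww, one_mul]
  -- an element `x` with `x ^ d = x v` lies in `V`
  have key : ∀ x ∈ E, d * x * d = x * v → x ∈ V := by
    intro x hx h2
    have h3 : d * (x * w) * d = x * w := by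
      rw [hmul, h2, hdw]
      calc x * v * (w * v) = x * (v * w) * v := by group
        _ = x * w * (v * v) := by rw [← hcen v (hVE hv) hvv w (hVE hw)]; group
        _ = x * w := by rw [hvv, mul_one]
    have h4 : x * w ∈ V := by
      rcases h1 _ (mul_mem hx (hVE hw)) h3 with h5 | h5 <;> rw [h5]
      exacts [one_mem _, hv]
    exact (mul_mem_cancel_right hw).1 h4
  -- inverted elements are involutions
  have hinv : ∀ (k : ℕ) (y : X), y ∈ E → d * y * d = y⁻¹ → y ^ 2 ^ k = 1 → y * y = 1 := by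
    intro k
    induction k with
    | zero => intro y _ _ h2; rw [pow_zero, pow_one] at h2; rw [h2, mul_one]
    | succ k ih =>
      intro y hy h2 h3
      have h4 : d * (y * y) * d = (y * y)⁻¹ := by rw [hmul, h2, mul_inv_rev]
      have h5 := ih (y * y) (mul_mem hy hy) h4 (by rw [← pow_two, ← pow_mul, ← pow_succ', h3])
      rw [inv_eq_of_mul_eq_one_left h5] at h4
      rcases h1 _ (mul_mem hy hy) h4 with h6 | h6
      · exact h6
      · have h7 : y ∈ V := key y hy (by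
          rw [h2, ← h6]
          refine inv_eq_of_mul_eq_one_right ?_
          rw [← h5]; group)
        rw [← pow_two]
        exact hV.2 y h7
  intro x hx
  have h2 : x⁻¹ * (d * x * d) ∈ E := mul_mem (inv_mem hx) (hcj x hx)
  have h3 : d * (x⁻¹ * (d * x * d)) * d = (x⁻¹ * (d * x * d))⁻¹ := by
    rw [hmul, hdd', mul_inv_rev, mul_inv_rev, mul_inv_rev, hdi, inv_inv]
    group
  obtain ⟨k, hk⟩ := pow_eq_one_of_mem hE h2
  have h4 := hinv k _ h2 h3 hk
  rw [inv_eq_of_mul_eq_one_left h4] at h3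
  rcases h1 _ h2 h3 with h5 | h5
  · rcases h1 x hx (inv_mul_eq_one.1 h5).symm with h6 | h6 <;> rw [h6]
    exacts [one_mem _, hv]
  · exact key x hx (by rw [← h5]; group)

variable {S D L : Subgroup X}

/-- **Lemma B.** -/
theorem le_of_cls [hS : S.Normal] (hD : IsPGroup 2 D) (hT : TI D) (hR : Rk2 2 D)
    (two : ∀ x y : X, x ∉ S → y ∉ S → x * y ∈ S) (h4 : Nat.card ↥(D ⊓ S) ≤ 4) (hno : ∀ a ∈ D, a * a = 1 → a ∈ S)
    (hone : ∀ a ∈ D ⊓ S, ∀ b ∈ D ⊓ S, orderOf a = 2 → orderOf b = 2 → IsConj a b) : D ≤ S := by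
  have hp : Fact (Nat.Prime 2) := ⟨Nat.prime_two⟩
  obtain ⟨V, hVD, hV, hc⟩ := hR
  have hsq : ∀ a ∈ V, a * a = 1 := fun a ha => by rw [← pow_two]; exact hV.2 a ha
  have hVS : V ≤ D ⊓ S := fun a ha => ⟨hVD ha, hno a (hVD ha) (hsq a ha)⟩
  have hVe : V = D ⊓ S := eq_of_le_of_card_ge hVS (by rw [hc]; exact h4)
  obtain ⟨z, hz, hz2, hz3⟩ := exists_fix hD (hD.to_le (inf_le_left (b := S))) (hVe ▸ el_ne_bot hc)
    (le_Nz_inf le_normalizer (le_Nz_normal D S))
  have hcen : ∀ a ∈ V, ∀ x ∈ D, a * x = x * a := by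
    intro a ha x hx
    by_cases ha1 : a = 1
    · rw [ha1, one_mul, mul_one]
    obtain ⟨g, rfl⟩ := isConj_iff.1 (hone z hz a (hVS ha) hz2 (two_of_sq (hsq a ha) ha1))
    have h1 := mem_C1.1 (hz3 (conj_mem' (hT.mem' hz.1 (sq_of_two hz2).2 (hVD ha)) hx))
    calc g * z * g⁻¹ * x = g * (z * (g⁻¹ * x * g)) * g⁻¹ := by group
      _ = x * (g * z * g⁻¹) := by rw [h1]; group
  intro x hx
  by_contra hxS
  have h1 : x * x ∈ V := hVe ▸ ⟨mul_mem hx hx, two x x hxS hxS⟩
  have h2 : x * x ≠ 1 := fun h => hxS (hno x hx h)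
  obtain ⟨w, hw, hw1⟩ := el_exists_not_mem hV hc _ h1
  have hw2 : w ≠ 1 := fun h => hw1 (h ▸ one_mem _)
  obtain ⟨g, rfl⟩ := isConj_iff.1 (hone _ (hVS h1) w (hVS hw) (two_of_sq (hsq _ h1) h2) (two_of_sq (hsq w hw) hw2))
  have hg := hT.mem' (hVD h1) h2 (hVD hw)
  have h3 : g * x * g⁻¹ ∉ S := fun h => hxS (by
    have := hS.conj_mem' _ h g
    rwa [show g⁻¹ * (g * x * g⁻¹) * g = x by group] at this)
  have h5 : x⁻¹ * (g * x * g⁻¹) ∈ V :=
    hVe ▸ mem_inf.2 ⟨mul_mem (inv_mem hx) (conj_mem hg hx), two _ _ (fun h => hxS (S.inv_mem_iff.1 h)) h3⟩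
  apply hw1
  obtain ⟨a, ha⟩ : ∃ a, a = x⁻¹ * (g * x * g⁻¹) := ⟨_, rfl⟩
  rw [← ha] at h5
  have h6 : g * (x * x) * g⁻¹ = x * x := by
    calc g * (x * x) * g⁻¹ = x * (a * x) * a := by rw [ha]; group
      _ = x * x * (a * a) := by rw [hcen a h5 x hx]; group
      _ = x * x := by rw [hsq a h5, mul_one]
  rw [h6]
  exact mem_zpowers _

omit [Finite X] in
/-- components, seen in the socle -/
theorem comp_soc {H : Subgroup X} (hLS : L ≤ S) (hLH : L ≤ H) (h : IsComponent (L.subgroupOf H)) :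
    IsComponentOf (L.subgroupOf S) (H.subgroupOf S) := by
  have h1 : L.subgroupOf S ≤ H.subgroupOf S := fun _ hx => hLH hx
  refine ⟨h1, ?_, ?_⟩
  · exact h.1.comap (S.subtype.subgroupComap H)
  · exact isQuasisimple_of_mulEquiv (((subgroupOfEquivOfLe hLH).trans (subgroupOfEquivOfLe hLS).symm).trans
      (subgroupOfEquivOfLe h1).symm) h.2

omit [Finite X] in
theorem C1_soc (w : S) : (C1 (w : X)).subgroupOf S = C1 w := by
  ext y
  rw [mem_subgroupOf, mem_C1, mem_C1]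
  exact ⟨fun h => Subtype.ext h, fun h => congrArg Subtype.val h⟩

omit [Finite X] in
theorem C1_fix [S.Normal] (x : X) : (C1 x).subgroupOf S = fixedSubgroup (MulAut.conjNormal x : MulAut S) := by
  ext y
  rw [mem_subgroupOf, mem_C1]
  change _ ↔ MulAut.conjNormal x y = y
  rw [Subtype.ext_iff, MulAut.conjNormal_apply, mul_inv_eq_iff_eq_mul]

omit [Finite X] in
theorem mem_of_inner [S.Normal] (hc : Cz S = ⊥) {x : X} {g : S} (h : (MulAut.conjNormal x : MulAut S) = MulAut.conj g) :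
    x ∈ S := by
  have h1 : (g : X)⁻¹ * x ∈ Cz S := mem_Cz.2 fun y hy => by
    have h3 := congrArg Subtype.val (DFunLike.congr_fun h ⟨y, hy⟩)
    have h2 : x * y * x⁻¹ = g * y * (g : X)⁻¹ := h3
    calc y * ((g : X)⁻¹ * x) = (g : X)⁻¹ * (g * y * (g : X)⁻¹) * x := by group
      _ = (g : X)⁻¹ * x * y := by rw [← h2]; group
  rw [hc, mem_bot, inv_mul_eq_one] at h1
  exact h1 ▸ g.2

theorem two_of_out [S.Normal] (hc : Cz S = ⊥) (h : Nat.card (Cfsg.Out S) ≤ 2) (x y : X) (hx : x ∉ S) (hy : y ∉ S) :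
    x * y ∈ S := by
  let ψ : X →* Cfsg.Out S := (QuotientGroup.mk' (Inn S)).comp MulAut.conjNormal
  have h1 : ∀ z : X, ψ z = 1 → z ∈ S := fun z hz => by
    obtain ⟨g, hg⟩ := (QuotientGroup.eq_one_iff _).1 hz
    exact mem_of_inner hc hg.symm
  have hf : Finite (MulAut S) := Finite.of_injective _ DFunLike.coe_injective
  have h2 : Nat.card (⊤ : Subgroup (Cfsg.Out S)) ≤ 2 := by rwa [card_top]
  rcases mem_of_card_le_two h2 (mem_top (ψ x)) (fun h0 => hx (h1 x h0)) (mem_top (ψ (x * y))) with h3 | h3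
  · exact h1 _ h3
  · rw [map_mul, mul_eq_left] at h3
    exact absurd (h1 y h3) hy

theorem card_le_two_mul (two : ∀ x y : X, x ∉ S → y ∉ S → x * y ∈ S) : Nat.card D ≤ 2 * Nat.card ↥(D.subgroupOf S) := by
  have h1 : (S.subgroupOf D).index ∣ 2 := by
    rw [index_dvd_two_iff]
    by_cases h : D ≤ S
    · exact ⟨1, fun b => Or.inr (h b.2)⟩
    · obtain ⟨a, ha, haS⟩ := SetLike.not_le_iff_exists.1 h
      exact ⟨⟨a, ha⟩, fun b => (em ((b : X) ∈ S)).symm.imp (fun hb => two _ _ hb haS) id⟩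
  have h2 := (S.subgroupOf D).card_mul_index
  have h3 : Nat.card ↥(S.subgroupOf D) = Nat.card ↥(D.subgroupOf S) := by
    rw [← card_map_of_injective D.subtype_injective, ← card_map_of_injective S.subtype_injective, subgroupOf_map_subtype,
      subgroupOf_map_subtype, inf_comm]
  have h4 := Nat.le_of_dvd (by norm_num) h1
  rw [← h2, h3, mul_comm]
  exact Nat.mul_le_mul_right _ h4

/-- **The reduction.** -/
theorem out_of_row (h : AS 2 S D) (hout : Nat.card (Cfsg.Out S) ≤ 2)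
    (hbal : ∀ t : S, orderOf t = 2 → centralizerPPrimeCore 2 t = ⊥) (hrow : Row S) : TID.Out 2 S D := by
  have hp : Fact (Nat.Prime 2) := ⟨Nat.prime_two⟩
  have hS := h.soc.normal
  have hc : Cz S = ⊥ := h.soc.cent
  have two := two_of_out hc hout
  have hT := h.loc.ti
  have hD := h.loc.pgrp
  by_cases hcp : CenP 2 S D
  · exact h.out_of_cenP hcp
  obtain ⟨V, hVD, hV, hVc⟩ := h.loc.rk
  have hsq : ∀ a ∈ V, a * a = 1 := fun a ha => by rw [← pow_two]; exact hV.2 a ha
  obtain ⟨a, ha, ha1⟩ := V.bot_or_exists_ne_one.resolve_left (el_ne_bot hVc)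
  obtain ⟨b, hb, hba⟩ := el_exists_not_mem hV hVc a ha
  have hb1 : b ≠ 1 := fun h0 => hba (h0 ▸ one_mem _)
  have hab : b ≠ a := fun h0 => hba (h0 ▸ mem_zpowers _)
  have hne : D ⊓ S ≠ ⊥ := by
    intro h0
    have h1 : ∀ x ∈ D, x ≠ 1 → x ∉ S := fun x hx hx1 hxS => hx1 (mem_bot.1 (h0 ▸ (⟨hx, hxS⟩ : x ∈ D ⊓ S)))
    refine h1 (a * b) (hVD (mul_mem ha hb)) (fun h2 => hab ?_) (two a b (h1 a (hVD ha) ha1) (h1 b (hVD hb) hb1))
    rw [← inv_eq_of_mul_eq_one_right h2, inv_eq_of_mul_eq_one_right (hsq a ha)]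
  refine ⟨hne, Or.inr (Or.inr (Or.inl ⟨rfl, ?_⟩))⟩
  suffices h4 : Nat.card D ≤ 4 by
    have h1 := Nat.le_of_dvd Nat.card_pos h.loc.rk.sq_dvd
    omega
  obtain ⟨z, hz, hz2, hz3⟩ := exists_fix hD (hD.to_le (inf_le_left (b := S))) hne
    (le_Nz_inf le_normalizer (le_Nz_normal D S))
  obtain ⟨t, rfl⟩ : ∃ t : S, (t : X) = z := ⟨⟨z, hz.2⟩, rfl⟩
  have ht2 : orderOf t = 2 := by rw [← orderOf_coe, hz2]
  rcases h.comp_or_core hcp with ⟨L, hL, hLS⟩ | ⟨Y, hY⟩
  swap
  · exact absurd (centralizerPPrimeCore_eq_bot_iff.1 (hbal t ht2)) (hY.core_ne_bot hT hz.1 (sq_of_two ht2).2)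
  -- the situation in `S`
  have hcomp : ∀ w : S, (w : X) ∈ D → w ≠ 1 → IsComponentOf (L.subgroupOf S) (C1 w) := fun w hw hw1 => by
    rw [← C1_soc]
    exact comp_soc hLS (hL.le.trans (Cz_le_C1 hw)) (hL.comp_C1 hT hw fun h0 => hw1 (Subtype.ext h0))
  have hcent : D.subgroupOf S ≤ Cz (L.subgroupOf S) := fun x hx =>
    mem_Cz.2 fun k hk => Subtype.ext (mem_Cz.1 (hL.le hk) _ hx).symm
  have hEt : D.subgroupOf S ≤ C1 t := fun x hx => mem_C1.2 (Subtype.ext (mem_C1.1 (hz3 hx)))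
  have htK := hcomp t hz.1 (sq_of_two ht2).2
  have hbd : ∀ n, RB S n → Nat.card ↥(D.subgroupOf S) ≤ n := fun n hn => hn t ht2 _ htK _ hEt hcent
  have hle : D ≤ S → Nat.card ↥(D.subgroupOf S) = Nat.card D := fun h1 => Nat.card_congr (subgroupOfEquivOfLe h1).toEquiv
  have hN : ∀ (x : X) (g : S), x ∈ D → x ≠ 1 → (g : X) ∈ C1 x → g ∈ Nz (D.subgroupOf S) := fun x g hx hx1 hg => by
    have h1 := hT.cent_le hx hx1 hg
    rw [mem_normalizer_iff]
    intro y
    exact mem_normalizer_iff.1 h1 (y : X)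
  -- outer involutions
  have hno : (∀ α : MulAut S, fixedSubgroup α ≤ Nz (D.subgroupOf S) → orderOf α = 2 → (¬ ∃ g : S, α = MulAut.conj g) →
      α t = t → IsComponentOf (L.subgroupOf S) (fixedSubgroup α) → False) → ∀ x ∈ D, x * x = 1 → x ∈ S := by
    intro h1 x hx hxx
    by_contra hxS
    have hx1 : x ≠ 1 := fun h0 => hxS (h0 ▸ one_mem _)
    have hin : ¬ ∃ g : S, (MulAut.conjNormal x : MulAut S) = MulAut.conj g := fun ⟨g, hg⟩ => hxS (mem_of_inner hc hg)
    refine h1 (MulAut.conjNormal x) ?_ (two_of_sq (by rw [← map_mul, hxx, map_one]) fun h0 => hin ⟨1, by rw [h0, map_one]⟩)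
      hin ?_ ?_
    · rw [← C1_fix]
      exact fun g hg => hN x g hx hx1 hg
    · have h2 : t ∈ (C1 x).subgroupOf S := mem_C1.2 (mem_C1.1 (hz3 hx)).symm
      rw [C1_fix] at h2
      exact h2
    · rw [← C1_fix]
      exact comp_soc hLS (hL.le.trans (Cz_le_C1 hx)) (hL.comp_C1 hT hx hx1)
  rcases hrow with h1 | ⟨h1, h2⟩ | ⟨h1, h2⟩ | ⟨h1, ⟨s, h2⟩, h3⟩
  · have h2 := hbd 2 h1
    have h3 := card_le_two_mul (D := D) two
    omega
  · have hDS : D ≤ S := fun x _ => by
      obtain ⟨g, hg⟩ := h1 (MulAut.conjNormal x)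
      exact mem_of_inner hc hg
    rcases h2 with h2 | h2
    · rw [← hle hDS]
      exact hbd 4 h2
    · have h3 : D ≤ V := by
        refine le_of_flip hD hVD hV hVc fun v hv hv2 => ?_
        obtain ⟨v, rfl⟩ : ∃ w : S, (w : X) = v := ⟨⟨v, hDS hv⟩, rfl⟩
        have hv2' : orderOf v = 2 := by rw [← orderOf_coe, hv2]
        obtain ⟨d, h4, h5, h6⟩ := h2 v hv2' _ (hcomp v hv (sq_of_two hv2').2)
        refine ⟨d, hT.cent_le hv (sq_of_two hv2).2 (mem_C1.2 (congrArg Subtype.val h5).symm), congrArg Subtype.val h4,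
          fun x hx hxv hxd => ?_⟩
        have h7 := h6 (D.subgroupOf S ⊓ (C1 v ⊓ C1 d)) (hD.comap_subtype.to_le inf_le_left)
          ⟨hv, mem_C1.2 rfl, mem_C1.2 h5⟩ (inf_le_right.trans inf_le_left) (inf_le_right.trans inf_le_right)
          (inf_le_left.trans hcent) fun w hw hw1 => hcomp w hw.1 hw1
        have h8 := mem_of_card_le_two h7 (s := v) (x := ⟨x, hDS hx⟩) ⟨hv, mem_C1.2 rfl, mem_C1.2 h5⟩ (sq_of_two hv2').2
          ⟨hx, mem_C1.2 (Subtype.ext hxv.symm), mem_C1.2 (Subtype.ext hxd.symm)⟩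
        exact h8.imp (congrArg Subtype.val) (congrArg Subtype.val)
      exact (card_le_of_le h3).trans (by rw [hVc]; norm_num)
  · exfalso
    have h3 := hno fun α _ h4 h5 h6 h7 => h2 _ t α ht2 htK h4 h5 h6 h7
    obtain ⟨a, rfl⟩ : ∃ w : S, (w : X) = a := ⟨⟨a, h3 a (hVD ha) (hsq a ha)⟩, rfl⟩
    obtain ⟨b, rfl⟩ : ∃ w : S, (w : X) = b := ⟨⟨b, h3 b (hVD hb) (hsq b hb)⟩, rfl⟩
    have ha1' : a ≠ 1 := fun h0 => ha1 (by rw [h0]; rfl)
    have hb1' : b ≠ 1 := fun h0 => hb1 (by rw [h0]; rfl)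
    have haa : a * a = 1 := Subtype.ext (hsq a ha)
    have hbb : b * b = 1 := Subtype.ext (hsq b hb)
    have h4 := (h1 b (two_of_sq hbb hb1') _ (hcomp b (hVD hb) hb1')).1
    rcases (h1 a (two_of_sq haa ha1') _ (hcomp a (hVD ha) ha1')).2 b h4
      (fun k hk => (mem_Cz.1 (hcent (show b ∈ D.subgroupOf S from hVD hb)) k hk).symm) hbb with h5 | h5
    · exact hb1' h5
    · exact hab (congrArg Subtype.val h5)
  · have h4 := hbd 4 h1
    have h5 := hno fun α h5 h6 h7 h8 h9 => h3 _ _ t α hz.1 h4 h5 ht2 htK h6 h7 h8 h9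
    have h6 : Nat.card ↥(D ⊓ S) = Nat.card ↥(D.subgroupOf S) := by
      rw [← card_map_of_injective S.subtype_injective, subgroupOf_map_subtype]
    have hDS : D ≤ S := by
      refine le_of_cls hD hT h.loc.rk two (h6 ▸ h4) h5 fun x hx y hy hx2 hy2 => ?_
      have h7 : ∀ w (hw : w ∈ D ⊓ S), orderOf w = 2 → IsConj (s : X) w := fun w hw hw2 => by
        have h8 : orderOf (⟨w, hw.2⟩ : S) = 2 := by rw [← orderOf_coe]; exact hw2
        exact S.subtype.map_isConj (h2 _ h8 _ (hcomp _ hw.1 (sq_of_two h8).2))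
      exact (h7 x hx hx2).symm.trans (h7 y hy hy2)
    rwa [hle hDS] at h4

end abs

end Cfsg.Agent.TID.K2
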