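import Cfsg.Agent.TID.K2.SpAbs
import Cfsg.Agent.H283.SporFourB
import Cfsg.Agent.H283.MFour
import Cfsg.Agent.H283.HSFour
import Cfsg.Agent.H287.FixSuz
import Cfsg.Agent.H287.OutHe
import Cfsg.Agent.CTwoTab.Co1

/-!
# The row `KSporTwo`: the sporadic groups except `B` (helper5, project TID)
-/

set_option autoImplicit false
set_option linter.unusedSectionVars false
set_option maxHeartbeats 400000

namespace Cfsg.Agent.TID.K2

open Cfsg Subgroup
open Cfsg.Agent.CTwoTab Cfsg.Agent.SignalizersComponents.Components Cfsg.Agent.H287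
open Cfsg.Agent.H283.NoIn (Own na_of_card card_center_of)

universe u v

theorem own_equiv {T : Type u} {Y : Type v} [Group T] [Group Y] (e : T ≃* Y) (h : Own T) : Own Y := by
  intro t ht
  have h1 := (h (e.symm t) (by rw [MulEquiv.orderOf_eq, ht])).of_equiv e
  rwa [e.apply_symm_apply] at h1

theorem NoOut.of_equiv {T : Type u} {Y : Type v} [Group T] [Group Y] (e : T ≃* Y) (h : NoOut T) : NoOut Y := by
  intro E K t α h1 h2 h3 h4 h5 h6 h7 h8 h9
  refine h (E.map e.symm.toMonoidHom) (K.map e.symm.toMonoidHom) (e.symm t) (MulAut.congr e.symm α) ⟨t, h1, rfl⟩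
    (by rwa [card_map_of_injective e.symm.injective]) ?_ (by rw [MulEquiv.orderOf_eq, h4])
    (comp_symm e (by rwa [e.apply_symm_apply])) (by rw [MulEquiv.orderOf_eq, h6]) (H283.FourSpor.out_congr e.symm h7) ?_ ?_
  · rw [H283.FourSpor.fixed_congr]
    refine le_Nz ?_
    rintro _ ⟨g, hg, rfl⟩ _ ⟨x, hx, rfl⟩
    exact ⟨g * x * g⁻¹, conj_mem (h3 hg) hx, by rw [map_mul, map_mul, map_inv]⟩
  · change e.symm (α (e (e.symm t))) = e.symm t
    rw [e.apply_symm_apply, h8]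
  · rw [H283.FourSpor.fixed_congr]
    exact isComponentOf_map e.symm h9

/-- from the tables of the orders -/
theorem noOut0_of_card {T : Type u} [Group T] {P Q : ℕ → ℕ → Prop} (h1 : CompCard P T) (h2 : OutCard Q T)
    (h : ∀ n m, P n m → Q n m → False) : NoOut0 T := fun K t α ht hK hα ho _ hK' =>
  h _ _ (h1 t ht K hK) ((h2 α hα ho).comp hK')

section

variable {X : Type u} [Group X]

/-- `J₁` -/
theorem rb_j1 [Finite X] (h : Spor.IsoJ1 X) : RB X 2 := by
  intro t ht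
  refine Bd.of_sub fun K hK => ⟨zpowers t, by rw [Nat.card_zpowers, ht], fun s _ hsK => ?_⟩
  obtain ⟨-, -, h1, -⟩ := H7.JOneStd.std_of_iso h ht _ hK.2
  rw [← h1, mem_centralizer_iff]
  rintro _ ⟨k, hk, rfl⟩
  exact (hsK _ (mem_subgroupOf.1 hk)).symm

section twoAlt

open Cfsg.Agent.H287.TwoAlt Cfsg.Agent.SporRec.TwoAn Cfsg.Agent.TypeM Cfsg.Agent.TypeM.Two

theorem rb_alt {n : ℕ} (hn : 5 ≤ n) (L : MT n X) : RB X 2 := by
  refine RB.mk_of_classes (fun s => s = L.t) ?_ ?_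
  · intro t ht
    obtain ⟨g, hg⟩ := L.one t (sq_of_two ht).1 (sq_of_two ht).2
    exact ⟨g, L.t, rfl, hg.symm⟩
  · rintro s rfl
    have hs : IsSimpleGroup (↥(centralizer ({L.t} : Set X)) ⧸ L.K.π.ker) := simple_alt hn (quoKer L.K)
    refine Bd.of_hom (U := ↥(centralizer ({L.t} : Set X)) ⧸ L.K.π.ker) (na_alt hn (quoKer L.K))
      (f := QuotientGroup.mk' L.K.π.ker) (QuotientGroup.mk'_surjective _) ?_
    intro x hx
    have h1 : x ∈ L.K.π.ker := by rwa [QuotientGroup.mk'_apply, QuotientGroup.eq_one_iff] at hx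
    rcases (L.K.ker x).1 h1 with h2 | h2
    · left; rw [h2]; rfl
    · right; rw [h2, L.hz]

/-- `Ly` -/
theorem rb_ly (h : Spor.IsoLy X) : RB X 2 := by
  obtain ⟨-, -, -, ⟨L⟩⟩ := FactsLy.facts h
  exact rb_alt (by norm_num) L

/-- `McL` -/
theorem rb_mcl (h : Spor.IsoMcL X) : RB X 2 := by
  obtain ⟨-, -, -, ⟨L⟩⟩ := FactsMcL.facts h
  exact rb_alt (by norm_num) L

end twoAlt

section co3

open Cfsg.Agent.CTwoTab.Co3 Cfsg.Agent.SporRec.Co3.Chain Cfsg.Agent.SporRec.Co3.Ident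

/-- `Co₃` -/
theorem rb_co3 (h : Spor.IsoCo3 X) : RB X 2 := by
  obtain ⟨e⟩ := h
  obtain ⟨w, D⟩ := exists_data
  have := finite_G3
  refine RB.of_equiv (SporRec.Co3.Model.equivCo3.trans e.symm) ?_
  obtain ⟨π, N⟩ := D.ns
  refine RB.mk_of_classes (fun s => s = Z ∨ s = w) ?_ ?_
  · intro s hs
    obtain ⟨g, rfl | rfl⟩ := D.cls s hs
    · exact ⟨g, Z, Or.inl rfl, rfl⟩
    · exact ⟨g, w, Or.inr rfl, rfl⟩
  · rintro s (rfl | rfl)
    · refine Bd.of_eq (sq_of_two D.t2).2 (fun K hK => comp_eq_of_NS N hK) ?_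
      exact card_center_of (card_of_NS N) (card_quo_of_NS N) (by norm_num) (by norm_num)
    · obtain ⟨f, hf, hk⟩ := D.hom
      have := simple_M12
      exact Bd.of_hom (f := f) (na_of_card (by rw [D.card]; norm_num)) hf
        (fun x hx => (hk x hx).imp (fun h => by rw [h]; rfl) id)

end co3

section fi22

open Cfsg.Agent.CTwoTab.Fi22 Cfsg.Agent.R01.FiFusion Cfsg.Agent.R01.FiFacts Cfsg.Agent.StdFi22.TLev
open Cfsg.Agent.OddHalf.D4.Spor.Fi22 (inv_cases)
open Cfsg.Agent.StdFi22.MainFi22 (bas)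
open Cfsg.Agent.R08.AutT (T)

theorem rb_fi22_model : RB Spor.Fi22 2 := by
  have := finite
  intro t ht
  obtain ⟨tt, t1⟩ := sq_of_two ht
  rcases inv_cases tt t1 with h | ⟨a, ha, b, hb, hab, cab, rfl⟩ | ⟨a, b, c, h, rfl⟩
  · obtain ⟨b, c, hT⟩ := bas.exists_tri h
    obtain ⟨R, F⟩ := facts h hT.my hT.xy hT.cxy
    exact Bd.of_top t1 F.quasi (card_center F)
  · refine Bd.of_none fun K hK => ?_
    obtain ⟨R, F⟩ := facts ha hb hab cab
    have : Fact (Nat.Prime 2) := ⟨Nat.prime_two⟩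
    refine no_comp_of_pGroup (p := 2) (R := R) ?_ ?_ F.R_two ?_ K hK
    · intro x hx
      obtain ⟨h1, h2⟩ := mem_pair.1 (F.R_le hx)
      exact mem_centralizer_singleton_iff.2 (comm_mul h1 h2)
    · intro c hc r hr
      exact F.R_normal c (mem_centralizer_singleton_iff.1 hc) r hr
    · intro c _ h
      rcases F.R_center c h with rfl | rfl | rfl | rfl
      · exact one_mem _
      · exact F.d_mem
      · exact F.d'_mem
      · exact mul_mem F.d_mem F.d'_mem
  · exact Bd.of_none fun K hK => no_comp_three h K hK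

/-- `Fi₂₂` -/
theorem rb_fi22 (h : Spor.IsoFi22 X) : RB X 2 := by
  obtain ⟨e⟩ := h
  exact RB.of_equiv e.symm rb_fi22_model

end fi22

section monster

open Cfsg.Agent.MonsterX.Model Cfsg.Agent.MonsterX.MainPack
  Cfsg.Agent.MonsterX.MainSimple Cfsg.Agent.MonsterX.MainBasic Cfsg.Agent.MonsterU.Assembly
open Cfsg.Agent.CTwoTab.MonsterOf

theorem rb_m_of {W : Type} [AddCommGroup W] [Module ℚ W] {M : MData W} {K₀ : Type} [Group K₀]
    (A : All M K₀) {y : ℕ → M.G} (hP : Cfsg.Agent.Bimonster.PRel y) (hne : y 0 ≠ y 1)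
    (hy : ∃ g : M.G, g * tG A.hG A.hR * g⁻¹ = y 10) (hB : Cfsg.IsB Cfsg.Spor.BabyMonster) : RB ↥M.G 2 := by
  have := G_finite A.hO
  intro u hu
  obtain ⟨huu, hu1⟩ := sq_of_two hu
  rcases A.classes u huu hu1 with ⟨g, rfl⟩ | ⟨g, rfl⟩
  · exact (Bd.of_none (not_comp_large (Cfsg.Agent.MonsterU.ModelChart.large A.hG A.hR A.hL A.hO A.hT))).conj g
  · have hc := cover_t A hP hne hy hB
    have ht1 : tG A.hG A.hR ≠ 1 := by
      intro h
      apply hu1
      rw [h]; group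
    exact (Bd.of_top ht1 (quasisimple_cover hB hc) hc.1).conj g

/-- `M` -/
theorem rb_m (h : Spor.IsoM X) : RB X 2 := by
  obtain ⟨e⟩ := h
  obtain ⟨f⟩ := Cfsg.Agent.MonsterP.Equiv.equiv
  exact RB.of_equiv (e.trans f).symm (rb_m_of Cfsg.Agent.MonsterU.Uncond.all
    (Cfsg.Agent.MonsterP.NodesGrp.prel Cfsg.Agent.MonsterU.NodesU.hyp)
    (Cfsg.Agent.MonsterP.NodesNe.ne Cfsg.Agent.MonsterU.NodesU.hyp) Cfsg.Agent.MonsterU.NodesU.conj_ten
    Cfsg.Agent.S1704.result)

end monster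

section hs

open Cfsg.Agent.KFacts.HS Cfsg.Agent.KFacts.HS.DFour Cfsg.Agent.CTwoTab.HS

/-- `HS` -/
theorem rb_hs [Finite X] (h : Spor.IsoHS X) : RB X 2 := by
  obtain ⟨D⟩ := exists_mod h
  intro u hu
  rcases inv_cases D u (sq_of_two hu).1 (sq_of_two hu).2 with ⟨c, rfl⟩ | ⟨c, rfl⟩
  · exact (Bd.of_none (no_comp_zA D)).conj c
  · refine Bd.conj (Bd.of_one fun K hK s _ hsK => ?_) c
    have h2 := comp_eq (quasi_alt (n := 6) (by norm_num) (equivLA D)) (LA_le D) (perfect_le_LA D) hK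
    subst h2
    exact cent_LA D hsK

end hs

section mtwelve

open Cfsg.Agent.CoThreeStd.MTwelve
open Cfsg.Agent.AschSpor.MTwelve (N N_le eN)

theorem perm_five : ∀ σ : Equiv.Perm (Fin 5),
    σ * (Equiv.swap 0 1 * Equiv.swap 1 2) = (Equiv.swap 0 1 * Equiv.swap 1 2) * σ →
    σ * (Equiv.swap 2 3 * Equiv.swap 3 4) = (Equiv.swap 2 3 * Equiv.swap 3 4) * σ → σ = 1 := by decide +kernel

/-- `M₁₂` -/
theorem rb_m12 (h : Spor.IsoM12 X) : RB X 2 := by
  obtain ⟨f⟩ := h
  refine RB.of_equiv f.symm ?_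
  refine RB.mk_of_classes (fun s => s = y ∨ s = p * r) (fun g hg => ?_) ?_
  · rcases inv_class g (sq_of_two hg).2 (sq_of_two hg).1 with ⟨m, hm⟩ | ⟨m, hm⟩
    · exact ⟨m⁻¹, y, Or.inl rfl, by rw [← hm, inv_inv]⟩
    · exact ⟨m⁻¹, p * r, Or.inr rfl, by rw [← hm, inv_inv]⟩
  · rintro s (rfl | rfl)
    · refine Bd.of_one fun K hK s hs hsK => ?_
      have hq : IsQuasisimple ↥N := quasi_alt le_rfl eN.symm
      have h1 : K = N := comp_eq hq N_le (fun P hP hperf => perfect_le_of_sq (fun g hg => ?_) P hP hperf) hK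
      · subst h1
        have key : ∀ σ : Equiv.Perm (Fin 5), (∀ k ∈ N, w σ * k = k * w σ) → σ = 1 := fun σ hσ => by
          refine perm_five σ (w_injective ?_) (w_injective ?_)
          · rw [map_mul, map_mul w _ σ]
            exact hσ _ ⟨_, Equiv.Perm.mem_alternatingGroup.2 (by decide), rfl⟩
          · rw [map_mul, map_mul w _ σ]
            exact hσ _ ⟨_, Equiv.Perm.mem_alternatingGroup.2 (by decide), rfl⟩
        obtain ⟨σ, rfl | rfl⟩ := cent_y s hs
        · left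
          rw [key σ hsK, map_one]
        · right
          rw [key σ fun k hk => ?_, map_one, mul_one]
          have h2 := hsK k hk
          rw [← mul_assoc, mem_centralizer_singleton_iff.1 (N_le hk), mul_assoc, mul_assoc] at h2
          exact mul_left_cancel h2
      · have hev : ∀ σ : Equiv.Perm (Fin 5), w (σ * σ) ∈ N := fun σ =>
          ⟨σ * σ, by
            change σ * σ ∈ alternatingGroup (Fin 5)
            rw [Equiv.Perm.mem_alternatingGroup, map_mul, Int.units_mul_self], rfl⟩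
        obtain ⟨σ, rfl | rfl⟩ := cent_y g (mem_centralizer_singleton_iff.1 hg)
        · rw [← map_mul]
          exact hev σ
        · have h1 : y * w σ * (y * w σ) = w (σ * σ) := by
            rw [map_mul]
            calc y * w σ * (y * w σ) = y * (w σ * y) * w σ := by group
              _ = y * (y * w σ) * w σ := by rw [y_comm]
              _ = (y * y) * (w σ * w σ) := by group
              _ = w σ * w σ := by rw [y_sq, one_mul]
          rw [h1]
          exact hev σ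
    · have hs : Group.IsSolvable ↥(centralizer ({p * r} : Set H)) :=
        S0144.result 2 3 6 1 Nat.prime_two Nat.prime_three (by rw [card_cent_v]; norm_num)
      exact Bd.of_none fun K hK => (HCard.of_solvable (S := NoC) hs).comp hK

end mtwelve

open Cfsg.Agent.KFacts.Ru Cfsg.Agent.CTwoTab.Ru Cfsg.Agent.RuB in
/-- `Ru` -/
theorem rb_ru [Finite X] (h : Spor.IsoRu X) : RB X 4 := by
  obtain ⟨C, hsz, hc⟩ := exists_core_sz h
  have hs : IsSimpleGroup ↥C.L := simple_sz hsz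
  have hna := na_L C
  intro t ht
  rcases InvC.invol_cases C (sq_of_two ht).1 (sq_of_two ht).2 with ⟨g, rfl⟩ | ⟨g, a, ha, rfl⟩
  · exact (Bd.of_none (no_comp_z C)).conj g
  · refine Bd.conj (fun K hK E h1 h2 => ?_) g
    have h3 : K = C.L := comp_eq (CTwoTab.isQuasisimple_of_simple hna) (le_cent C a) (perfect_le_L C ha) hK
    subst h3
    have h4 : (E : Set X) ⊆ Set.range C.v := fun x hx => by
      obtain ⟨b, l, hl, rfl⟩ := C.cent a ha x (mem_C1.1 (h1 hx)).symm
      have hl1 : (⟨l, hl⟩ : ↥C.L) ∈ center ↥C.L := by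
        rw [mem_center_iff]
        intro m
        have h5 := mem_Cz.1 (h2 hx) m m.2
        rw [← mul_assoc, ← C.v_comm b m m.2, mul_assoc, mul_assoc] at h5
        exact Subtype.ext (mul_left_cancel h5)
      rw [center_eq_bot_of_simple hna, mem_bot] at hl1
      exact ⟨b, by rw [show l = 1 from congrArg Subtype.val hl1, mul_one]⟩
    have h5 : Nat.card A4 = 4 := by rw [Nat.card_prod, Nat.card_zmod]
    have h6 := Nat.card_mono (Set.toFinite _) h4
    exact h6.trans ((Finite.card_range_le C.v).trans h5.le)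

open Cfsg.Agent.SporadicA.Co0Mono Cfsg.Agent.SporadicA.GolayBase Cfsg.Agent.KFacts.Co1D4 Cfsg.Agent.CTwoTab.Co1 in
/-- `Co₁` -/
theorem rb_co1 [Finite X] (h : Spor.IsoCo1 X) : RB X 4 := by
  obtain ⟨e⟩ := h
  have : Finite Spor.Co1 := Finite.of_equiv X e.toEquiv
  refine RB.of_equiv e.symm (RB.mk_of_classes Rep exists_rep ?_)
  rintro s (⟨o, ho, rfl⟩ | ⟨d, hd, rfl⟩ | rfl)
  · exact Bd.of_none (ctr_octad ho).no_comp
  · exact Bd.of_none (ctr_dodecad hd).no_comp
  · refine Bd.of_sub fun K hK => ⟨Main.setup.Z, Main.setup.card_Z.le, fun x h1 h2 => ?_⟩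
    rw [comp_twoB hK] at h2
    exact Main.setup.cent x h1 h2

section jtwo

open Cfsg.Agent.J2Type.Model Cfsg.Agent.J2Type.SPFacts Cfsg.Agent.J2Type.CStruct
open Cfsg.Agent.J3Type.OneClass Cfsg.Agent.J2Type.Base Cfsg.Agent.KFacts.J2.Basic
open Cfsg.Agent.Co2Type.Quad Cfsg.Agent.KFacts.AutLarge Cfsg.Agent.KFacts.J3Sheet
open Cfsg.Agent.KFacts Cfsg.Agent.OddHalf.D4.Spor Cfsg.Agent.OddHalf.D4.Spor.JTwo

/-- `J₂` -/
theorem row_j2 [Finite X] (h : Spor.IsoJ2 X) : RB X 4 ∧ Cls X ∧ NoOut X := by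
  obtain ⟨t, u, Q, v, ρ, D⟩ := Cfsg.Agent.KFacts.J2.Facts.exists_dat_of h
  have hno : ∀ K : Subgroup X, ¬ IsComponentOf K (centralizer ({t} : Set X)) := by
    have hL := large D.cardC D.M
    have S := QMinus.sheet D.cardC D.M
    have : Fact (Nat.Prime 2) := ⟨Nat.prime_two⟩
    refine no_comp_of_pGroup (p := 2) (R := Q.map (centralizer ({t} : Set X)).subtype) (map_subtype_le _) ?_ ?_ ?_
    · intro c hc r hr
      exact hL.conj_mem c (mem_cent.1 hc) r hr
    · rw [IsPGroup.iff_card]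
      exact ⟨5, by rw [S.card]; norm_num⟩
    · intro c _ h
      rcases cen_Q D h with rfl | rfl
      · exact one_mem _
      · exact t_mem_Q D
  obtain ⟨f, U, V, H0, F⟩ := Cfsg.Agent.J2Type.CentU.main D.F
  obtain ⟨e⟩ := equiv_H0 D F
  have hK : ∀ K : Subgroup X, IsComponentOf K (centralizer ({u} : Set X)) → K = H0 := fun K hK =>
    comp_eq (quasi_alt le_rfl e) F.str.le
      (fun P hP hperf => perfect_le_of_sq (fun a ha => F.str.sq_mem a ha) P hP hperf) hK
  refine ⟨fun s hs => ?_, Cls.of_two D.F.cover hno, NoOut0.noOut fun K s α hs h1 h2 h3 h4 h5 => ?_⟩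
  · rcases D.F.cover s hs with h1 | h1 <;> obtain ⟨g, rfl⟩ := isConj_iff.1 h1
    · exact (Bd.of_none hno).conj g
    · refine Bd.conj (Bd.of_sub fun K h2 => ⟨V, F.cardV.le, fun x h3 h4 => ?_⟩) g
      rw [hK K h2] at h4
      exact (F.memV x).2 ⟨h4 t (F.U_le F.zU), h3, h4 f F.f_mem⟩
  · rcases D.F.cover s hs with h6 | h6 <;> obtain ⟨g, rfl⟩ := isConj_iff.1 h6
    · exact hno _ (comp_symm (MulAut.conj g) h1)
    have h7 := hK _ (comp_symm (MulAut.conj g) h1)
    have h8 : ∀ x : X, α (g * x * g⁻¹) = g * x * g⁻¹ →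
        (MulAut.conj g⁻¹ * α * (MulAut.conj g⁻¹)⁻¹) x = x := fun x hx => by
      rw [J2.Aut.conj_conj, inv_inv, hx]; group
    have h9 : ∀ x ∈ H0, (MulAut.conj g⁻¹ * α * (MulAut.conj g⁻¹)⁻¹) x = x := fun x hx => by
      rw [← h7] at hx
      obtain ⟨k, hk, rfl⟩ := hx
      refine h8 _ ?_
      have h10 : g * (MulAut.conj g).symm.toMonoidHom k * g⁻¹ = k := (MulAut.conj g).apply_symm_apply k
      rw [h10]
      exact h5.1 hk
    refine J2.Aut.no_outer_u D (J2.Aut.not_inner_conj (fun k hk => h3 ⟨k, hk⟩) g⁻¹) (fun x => ?_) (h9 t (F.U_le F.zU))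
      (h8 u h4) fun i hi => h9 _ (F.U_le ((F.memU _).2 (Or.inr ⟨D.isConj_v i, D.vt i, hi⟩)))
    have h10 : (MulAut.conj g⁻¹ * α * (MulAut.conj g⁻¹)⁻¹) * (MulAut.conj g⁻¹ * α * (MulAut.conj g⁻¹)⁻¹) = 1 := by
      calc _ = MulAut.conj g⁻¹ * (α * α) * (MulAut.conj g⁻¹)⁻¹ := by group
        _ = 1 := by rw [(sq_of_two h2).1]; group
    exact DFunLike.congr_fun h10 x

end jtwo

/-- a `5`-group normalizing a group of order at most four centralizes it -/
theorem five_cent [Finite X] {P E : Subgroup X} (hP : IsPGroup 5 P) (hn : P ≤ Nz E) (hE : Nat.card E ≤ 4) {t : X}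
    (ht : t ∈ E) : P ≤ C1 t := by
  have : Fact (Nat.Prime 5) := ⟨by norm_num⟩
  let _ : MulAction P E := MulAction.compHom E (E.normalizerMonoidHom.comp (inclusion hn))
  have h1 := hP.card_modEq_card_fixedPoints E
  have h2 : Nat.card (MulAction.fixedPoints P E) ≤ Nat.card E := Nat.card_le_card_of_injective _ Subtype.val_injective
  have h3 : Nat.card (MulAction.fixedPoints P E) = Nat.card E := by
    unfold Nat.ModEq at h1
    omega
  have h4 : MulAction.fixedPoints P E = Set.univ :=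
    Set.eq_of_subset_of_ncard_le (Set.subset_univ _) (by rw [Set.ncard_univ, ← h3, Nat.card_coe_set_eq])
  intro g hg
  have h5 : (⟨t, ht⟩ : E) ∈ MulAction.fixedPoints P E := h4 ▸ Set.mem_univ _
  have h6 : g * t * g⁻¹ = t := congrArg Subtype.val (h5 ⟨g, hg⟩)
  exact mem_C1.2 (mul_inv_eq_iff_eq_mul.1 h6).symm

section suz

open Cfsg.Agent.CpAutTwo.Suz Cfsg.Agent.KFacts.SuzRho Cfsg.Agent.KFacts.SuzFix
open Cfsg.Agent.SporadicRecognition.SuzOrder Cfsg.Agent.SuzThree.Basic Cfsg.Agent.SuzThree.CentA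
  Cfsg.Agent.KFacts.SuzLFour Cfsg.Agent.KFacts.SuzTwoB

theorem row_suz_model : RB Spor.Suz 4 ∧ Cls Spor.Suz ∧ NoOut Spor.Suz := by
  have hfin := CTwoTab.Suz.finSuz
  have hno := no_comp_of_large KFacts.SuzLarge.large
  have hcl := fun t (ht : orderOf t = 2) => CTwoTab.Suz.classes (sq_of_two ht).1 (sq_of_two ht).2
  refine ⟨fun s hs => ?_, Cls.of_two hcl hno, fun E K t α h1 h2 h3 h4 h5 h6 h7 _ h9 => ?_⟩
  · rcases hcl s hs with h1 | h1 <;> obtain ⟨g, rfl⟩ := isConj_iff.1 h1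
    · exact (Bd.of_none hno).conj g
    · refine Bd.conj (Bd.of_sub fun K h2 => ⟨V, card_V.le, fun x h3 h4 => ?_⟩) g
      rw [comp_eq CTwoTab.Suz.quasi_L CTwoTab.Suz.L_le_CE CTwoTab.Suz.perfect_le_L h2] at h4
      exact cent_L h4 h3
  · have hK := (compCard_suz ⟨MulEquiv.refl _⟩ t h4 K h5).1
    rcases KFacts.SuzInvol.outer (sq_of_two h6).1 (fun s hs => h7 ⟨s, hs⟩) with ⟨g, h⟩ | ⟨g, h⟩
    · have hle : H wJ ≤ fixedSubgroup rho := by
        rw [eq_stab]
        exact fun g hg => rho_J hg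
      have h10 := card_dvd_of_le hle
      rw [card_HJ, ← FixSuz.card_conj g h] at h10
      have : Fact (Nat.Prime 5) := ⟨by norm_num⟩
      obtain ⟨P, hP⟩ := Sylow.exists_subgroup_card_pow_prime (G := fixedSubgroup α) 5 (n := 2)
        (dvd_trans (by norm_num) h10)
      have h11 := five_cent (P := P.map (fixedSubgroup α).subtype) ((IsPGroup.of_card hP).map _)
        ((map_subtype_le _).trans h3) h2 h1
      have h12 := card_dvd_of_le h11
      obtain ⟨c, rfl, -⟩ := CTwoTab.Suz.comp_cases h4 h5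
      have h13 : C1 (c * e0 * c⁻¹) = CE.map (MulAut.conj c).toMonoidHom := (map_centralizer_singleton (MulAut.conj c) e0).symm
      rw [card_map_of_injective (subtype_injective _), hP, h13, card_map_of_injective (MulAut.conj c).injective,
        card_CE] at h12
      norm_num at h12
    · have h10 : α = MulAut.conj (g * (SporadicRecognition.SuzOrder.el [.e, .d])⁻¹) * KFacts.SuzRho.sigma *
          (MulAut.conj (g * (SporadicRecognition.SuzOrder.el [.e, .d])⁻¹))⁻¹ := by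
        rw [h, KFacts.SuzInvol.sigma_eq, map_mul, map_inv]
        group
      have h11 := card_dvd_of_le h9.1
      rw [FixSuz.card_conj _ h10, card_sigma, hK] at h11
      norm_num at h11

/-- `Suz` -/
theorem row_suz (h : Spor.IsoSuz X) : RB X 4 ∧ Cls X ∧ NoOut X := by
  obtain ⟨e⟩ := h
  obtain ⟨h1, h2, h3⟩ := row_suz_model
  exact ⟨h1.of_equiv e.symm, h2.of_equiv e.symm, h3.of_equiv e.symm⟩

end suz

section he

open Cfsg.Spor Cfsg.Spor.He Cfsg.Agent.SporadicRecognition.HeldModel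
open Cfsg.Agent.KFacts.He.Lv Cfsg.Agent.KFacts.He.TwoACent

/-- `He` -/
theorem row_he (h : Spor.IsoHe X) : RB X 4 ∧ Cls X ∧ NoOut X := by
  have h3 : NoOut X := (noOut0_of_card (compCard_he h) (OutHe.outCard h) fun n m h1 h2 => by
    rw [h1.1] at h2
    omega).noOut
  obtain ⟨e⟩ := h
  have hfin := Cfsg.Agent.KFacts.He.Hyp.finHe
  have hcl := fun t (ht : orderOf t = 2) => CTwoTab.He.classes (sq_of_two ht).1 (sq_of_two ht).2
  refine ⟨RB.of_equiv e.symm fun s hs => ?_, (Cls.of_two hcl CTwoTab.He.no_comp_z).of_equiv e.symm, h3⟩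
  rcases hcl s hs with h1 | h1 <;> obtain ⟨g, rfl⟩ := isConj_iff.1 h1
  · exact (Bd.of_none CTwoTab.He.no_comp_z).conj g
  · refine Bd.conj (Bd.of_sub fun K h2 => ⟨V, card_V.le, fun x _ h4 => ?_⟩) g
    rw [comp_eq Cfsg.Agent.KFacts.He.TwoA.isQuasisimple_L CTwoTab.He.L_le_cent CTwoTab.He.perfect_le_L h2] at h4
    exact mem_V.2 fun l hl => (h4 l hl).symm

end he

/-- `O'N` -/
theorem row_on (h : Spor.IsoON X) : Own X ∧ NoOut0 X := by
  refine ⟨?_, noOut0_of_card (InnON.compCard h) (OutON.outCard h) fun n m h1 h2 => ?_⟩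
  · obtain ⟨e⟩ := h
    exact own_equiv e.symm H283.NoIn.own_on
  · rw [h1.1] at h2
    omega

/-- `Fi₂₄'` -/
theorem row_fi24 (h : Spor.IsoFi24' X) : Own X ∧ NoOut0 X := by
  refine ⟨?_, noOut0_of_card (compCard_fi24 h) (OutFi24.outCard h) fun n m h1 h2 => by omega⟩
  obtain ⟨e⟩ := h
  exact own_equiv e.symm H283.NoIn.own_fi24

/-- `HN` -/
theorem row_hn (h : Spor.IsoHN X) : Own X ∧ NoOut0 X := by
  refine ⟨?_, fun K t α h1 h2 h3 h4 _ h6 => ?_⟩
  · obtain ⟨e⟩ := h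
    exact own_equiv e.symm H283.NoIn.own_hn
  · have h7 := card_dvd_of_le h6.1
    rw [(compCard_hn h t h1 K h2).1] at h7
    exact OutHN.eleven h h3 h4 ((by norm_num : 11 ∣ 88704000).trans h7)

section fi23

set_option maxRecDepth 100000

open Cfsg.Agent.Fischer.Fi23Z Cfsg.Agent.Fischer.Fi23Hom
open Cfsg.Agent.Fischer Cfsg.Agent.Fischer.Fi23Class Cfsg.Agent.Fischer.Fi23Simple
open Cfsg.Agent.KFacts.FiTTh.Cent
open Cfsg.Spor Cfsg.Spor.Fi23
open Cfsg.Agent.CTwoTab.Fi23 Cfsg.Agent.CTwoTab.Fi23Res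

theorem flip_W2 : Flip (W2 : Spor.Fi23) := by
  have hfin := finite_Fi23
  intro K hK
  have hW : (W2 : Spor.Fi23) = z0 * gen .a := rfl
  have hzz : (z0 : Spor.Fi23) * z0 = 1 := KFacts.FiTTh.Cent.zz
  have hzW : (z0 : Spor.Fi23) * W2 = gen .a := by rw [hW, ← mul_assoc, hzz, one_mul]
  have hmem : ∀ x : Spor.Fi23, x * W2 = W2 * x → x * z0 = z0 * x → x ∈ centralizer Ds2 := fun x h1 h2 =>
    mem_cent2.2 ⟨h2, by rw [← hzW, ← mul_assoc, h2, mul_assoc, h1, mul_assoc]⟩
  have hsub : centralizer Ds2 ≤ centralizer ({W2} : Set Spor.Fi23) := by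
    intro x hx
    rw [mem_cent2] at hx
    rw [mem_centralizer_singleton_iff, hW, ← mul_assoc, hx.1, mul_assoc, hx.2, mul_assoc]
  have hKN : K ≤ centralizer Ds2 := fun k hk =>
    hmem k (mem_centralizer_singleton_iff.1 (hK.1 hk)) (H283.NoIn.comm_z0 hK k hk).symm
  refine ⟨z0, hzz, by rw [hzW, hW, mul_assoc, za, ← mul_assoc, hzz, one_mul], fun E _ h1 h2 h3 h4 h5 => ?_⟩
  have hz : z0 ∉ E := fun h6 => by
    obtain ⟨⟨e⟩, -⟩ := comp_two hK
    obtain ⟨⟨e2⟩, -⟩ := comp_one (h5 z0 h6 z0_one)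
    have h7 := (Nat.card_congr e.toEquiv).trans card_U
    rw [(Nat.card_congr e2.toEquiv).trans Cfsg.Agent.S1696.result.2] at h7
    norm_num at h7
  obtain ⟨hUs, hUna⟩ := simple_U
  obtain ⟨π, hπ, hk⟩ := exists_pi2
  refine card_le_two (s := W2) fun x hx => ?_
  have h6 := ker_of_cent hUna hsub hK hKN hπ (fun a b ha _ => ?_)
    (s := ⟨x, hmem x (mem_C1.1 (h2 hx)).symm (mem_C1.1 (h3 hx)).symm⟩) fun k hk => (mem_Cz.1 (h4 hx) k hk).symm
  · rcases (hk _).1 h6 with h7 | h7 | h7 | h7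
    · exact Or.inl h7
    · exact absurd ((show x = z0 from h7) ▸ hx) hz
    · refine absurd ?_ hz
      have h8 := mul_mem h1 hx
      rwa [show x = gen .a from h7, hW, mul_assoc, aa, mul_one] at h8
    · exact Or.inr h7
  · obtain ⟨h7, h8⟩ := mem_cent2.1 b.2
    rcases (hk _).1 ha with h9 | h9 | h9 | h9 <;> rw [h9]
    · rw [one_mul, mul_one]
    · exact h7.symm
    · exact h8.symm
    · rw [mul_assoc, ← h8, ← mul_assoc, ← h7, mul_assoc]

theorem rf_fi23_model : RF Spor.Fi23 := by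
  have hfin := finite_Fi23
  refine RF.mk_of_classes (fun s => s = z0 ∨ s = W2 ∨ s = W3) ?_ ?_
  · intro t ht
    rcases KFacts.FiTTh.Has.inv t (sq_of_two ht).1 (sq_of_two ht).2 with h | h | h
    · obtain ⟨g, hg⟩ := isConj_iff.1 h.symm
      exact ⟨g, z0, Or.inl rfl, hg.symm⟩
    · obtain ⟨g, hg⟩ := isConj_iff.1 h.symm
      exact ⟨g, W2, Or.inr (Or.inl rfl), hg.symm⟩
    · obtain ⟨g, hg⟩ := isConj_iff.1 h.symm
      exact ⟨g, W3, Or.inr (Or.inr rfl), hg.symm⟩
  · rintro s (rfl | rfl | rfl)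
    · have hK : IsComponentOf (centralizer ({z0} : Set Spor.Fi23)) (centralizer ({z0} : Set Spor.Fi23)) := by
        refine ⟨le_rfl, ?_, ?_⟩
        · rw [subgroupOf_self]
          exact Subgroup.IsSubnormal.top
        · exact (isQuasisimple_congr (subgroupOfEquivOfLe le_rfl)).2 KFacts.FiTTh.Quasi.qs
      obtain ⟨⟨e⟩, hc⟩ := comp_one hK
      have h1 := card_center_of hc ((Nat.card_congr e.toEquiv).trans Cfsg.Agent.S1696.result.2)
        (show (2 * 64561751654400 : ℕ) = 64561751654400 * 2 by norm_num) (by norm_num)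
      exact (Bd.of_top z0_one KFacts.FiTTh.Quasi.qs h1).flip
    · exact flip_W2
    · exact Flip.of_none (three_data CTwoTab.Fi23Fin.hU).2

/-- `Fi₂₃` -/
theorem rf_fi23 (h : Spor.IsoFi23 X) : RF X := by
  obtain ⟨e⟩ := h
  exact RF.of_equiv e.symm rf_fi23_model

end fi23

end

end Cfsg.Agent.TID.K2
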